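import Cfsg.Agent.Lib.Chev.Basic
import Cfsg.Agent.Lib.Chev.RootOrbit

/-! The signs of the monomial matrices `n_p` and their conjugation of the diagonal elements. -/

set_option autoImplicit false

namespace Cfsg.Agent.Lib.Twisted

open Cfsg.Lie Cfsg.Agent.Lib.Chev
open scoped Matrix

/-- The sign rules `η_p = -1` and `η_s η_{w_p s} = (-1)^{A_{p,s}}`. -/
def chkEtaSigns (D : ChevalleyDatum) (C : Cert) : Bool :=
  allN D.rank fun i => decide (eta C i (D.simple i) = -1) &&
    allN D.nroots fun s =>
      decide (eta C i s * eta C i (refl C i s) = (-1) ^ (D.cartan i s).natAbs)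

theorem etaSigns_G2 : chkEtaSigns chevG2 G2.cert = true := by decide +kernel
theorem etaSigns_B2 : chkEtaSigns chevB2 B2.cert = true := by decide +kernel
theorem etaSigns_D4 : chkEtaSigns chevD4 D4.cert = true := by decide +kernel
theorem etaSigns_F4 : chkEtaSigns chevF4 F4.cert = true := by decide +kernel
theorem etaSigns_E6 : chkEtaSigns chevE6 E6.cert = true := by decide +kernel
theorem etaSigns_E7 : chkEtaSigns chevE7 E7.cert = true := by decide +kernel
theorem etaSigns_E8 : chkEtaSigns chevE8 E8.cert = true := by decide +kernel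

variable {D : ChevalleyDatum} {C : Cert} {F : Type*} [Field F]

theorem powDiag_mul (c c' : Fˣ) (e : ℕ → ℤ) :
    powDiag D (c : F) e * powDiag D (c' : F) e = powDiag D ((c * c' : Fˣ) : F) e := by
  rw [powDiag, powDiag, powDiag, Matrix.diagonal_mul_diagonal]
  congr 1
  funext x
  rcases x with i | s <;> simp [mul_zpow]

/-- `h_r(t) h_r(u) = h_r(t u)`. -/
theorem hMat_mul (h : Rooted D C) {r : ℕ} (hr : r < D.nroots) (t u : Fˣ) :
    D.hMat F r (t : F) * D.hMat F r (u : F) = D.hMat F r ((t * u : Fˣ) : F) := by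
  rw [h.hMat_eq hr, h.hMat_eq hr, h.hMat_eq hr, powDiag_mul]

/-- Conjugation by `n_p` carries `h_r(c)` to `h_{w_p r}(c)`. -/
theorem nMat_mul_hMat' (h : Rooted D C) {i r : ℕ} (hi : i < D.rank) (hr : r < D.nroots) (c : Fˣ) :
    D.nMat F (D.simple i) 1 * D.hMat F r (c : F) =
      D.hMat F (refl C i r) (c : F) * D.nMat F (D.simple i) 1 := by
  have hc := h.toChecked
  rw [h.hMat_eq hr, h.hMat_eq (hc.refl_lt hi hr), powDiag_eq_charDiag, powDiag_eq_charDiag]
  refine matrix_ext fun a ha => ?_
  simp only [← Matrix.mulVec_mulVec]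
  by_cases hs : a < D.nroots
  · simp only [hc.nMat_bv_root hi hs, charDiag_mulVec_root _ hs,
      charDiag_mulVec_root _ (hc.refl_lt hi hs), Matrix.mulVec_smul, smul_smul,
      hc.pairing_refl hi hr hs]
    rw [mul_comm]
  · obtain ⟨j, rfl⟩ := Nat.exists_eq_add_of_le (Nat.le_of_not_lt hs)
    simp only [hc.nMat_bv_h hi (show j < D.rank by omega), charDiag_mulVec_h, Matrix.mulVec_sub,
      Matrix.mulVec_smul]

/-- The action of `n_p` on the basis, as a signed monomial matrix. -/
theorem nMat_eq_monomial (h : Rooted D C) (hs : chkEtaSigns D C = true) {i : ℕ} (hi : i < D.rank) :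
    (∀ s < D.nroots, eta C i s = 1 ∨ eta C i s = -1) ∧ eta C i (D.simple i) = -1 ∧
      eta C i (D.neg (D.simple i)) = -1 ∧
      (∀ s < D.nroots, eta C i s * eta C i (D.reflectRoot i s) = (-1) ^ (D.cartan i s).natAbs ∧
        eta C i s * eta C i (D.neg s) = 1) ∧
      D.nMat F (D.simple i) 1 = Matrix.of (fun (row col : D.Idx) =>
        Sum.elim
          (fun j' : Fin D.rank => Sum.elim
            (fun j : Fin D.rank => (if j' = j then (1 : F) else 0) -
              (if (j' : ℕ) = i then ((D.cartan j (D.simple i) : ℤ) : F) else 0))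
            (fun _ => (0 : F)) col)
          (fun s' : Fin D.nroots => Sum.elim
            (fun _ => (0 : F))
            (fun s : Fin D.nroots =>
              if (s' : ℕ) = D.reflectRoot i s then ((eta C i s : ℤ) : F) else 0) col)
          row) := by
  have hc := h.toChecked
  simp only [chkEtaSigns, allN_iff, Bool.and_eq_true, decide_eq_true_eq] at hs
  have hp := hc.simple_lt hi
  refine ⟨fun s _ => eta_cases i s, (hs i hi).1, ?_, fun s hs' => ⟨?_, ?_⟩, ?_⟩
  · rw [hc.neg_eq hp, hc.eta_ng hi hp]; exact (hs i hi).1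
  · rw [hc.reflectRoot_eq hi hs']; exact (hs i hi).2 s hs'
  · rw [hc.neg_eq hs', hc.eta_ng hi hs', eta_sq]
  · ext row col
    have e := congrFun (mulVec_bv (D.nMat F (D.simple i) 1) col) row
    rw [← e]
    rcases col with j | s
    · show (D.nMat F (D.simple i) 1 *ᵥ bv D F (D.nroots + j.val)) row = _
      rw [hc.nMat_bv_h hi j.isLt, hc.cm_eq hi j.isLt]
      rcases row with j' | s'
      · simp only [Pi.sub_apply, Pi.smul_apply, bv, idxCode, smul_eq_mul, Matrix.of_apply,
          Sum.elim_inl, Fin.ext_iff]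
        simp
      · have : ∀ k, ¬ ((s' : ℕ) = D.nroots + k) := fun k => by omega
        simp [bv, idxCode, this]
    · show (D.nMat F (D.simple i) 1 *ᵥ bv D F s.val) row = _
      rw [hc.nMat_bv_root hi s.isLt]
      rcases row with j' | s'
      · have : ¬ (D.nroots + (j' : ℕ) = refl C i s) := by have := hc.refl_lt hi s.isLt; omega
        simp [bv, idxCode, this]
      · by_cases hh : (s' : ℕ) = refl C i s.val
        · simp [bv, idxCode, hc.reflectRoot_eq hi s.isLt, hh]
        · simp [bv, idxCode, hc.reflectRoot_eq hi s.isLt, hh]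

end Cfsg.Agent.Lib.Twisted
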