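import Cfsg.Agent.Lib.Twisted.ExcIso
import Cfsg.Prelude.Def_ChevF4

/-! Certificate of the exceptional isogeny of type F4 in characteristic 2 (generated data); it is
checked in `IsoF4Verify`. -/

set_option autoImplicit false

namespace Cfsg.Agent.Lib.Twisted

open Cfsg.Lie

noncomputable def f4IsoPhi0 : List (List (PolyMat.Term)) := [
    [(2,2,0,1),(3,3,0,1),(7,7,0,1),(8,8,0,1),(9,9,0,1),(11,11,0,1),(12,12,0,1),(13,13,0,1),(14,14,0,1),(15,15,0,1),(16,16,0,1),(18,18,0,1),(19,19,0,1),(20,20,0,1),(24,24,0,1),(25,25,0,1)],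
    [(3,3,0,1),(4,4,0,1),(5,5,0,1),(6,6,0,1),(7,7,0,1),(8,8,0,1),(9,9,0,1),(10,10,0,1),(17,17,0,1),(18,18,0,1),(19,19,0,1),(20,20,0,1),(21,21,0,1),(22,22,0,1),(23,23,0,1),(24,24,0,1)],
    [(4,4,0,1),(5,5,0,1),(8,8,0,1),(9,9,0,1),(12,12,0,1),(13,13,0,1),(14,14,0,1),(15,15,0,1),(18,18,0,1),(19,19,0,1),(22,22,0,1),(23,23,0,1)],
    [(5,5,0,1),(6,6,0,1),(7,7,0,1),(8,8,0,1),(11,11,0,1),(12,12,0,1),(15,15,0,1),(16,16,0,1),(19,19,0,1),(20,20,0,1),(21,21,0,1),(22,22,0,1)],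
    [(2,16,0,1),(3,20,0,1),(4,22,0,1),(5,23,0,1),(7,24,0,1),(11,25,0,1)],
    [(2,15,0,1),(3,19,0,1),(4,21,0,1),(6,23,0,1),(8,24,0,1),(12,25,0,1)]]

noncomputable def f4IsoPhi1 : List (List (PolyMat.Term)) := [
    [(2,14,0,1),(3,18,0,1),(5,21,0,1),(6,22,0,1),(9,24,0,1),(13,25,0,1)],
    [(1,25,0,1),(2,0,0,1),(3,17,0,1),(4,18,0,1),(5,19,0,1),(6,20,0,1),(7,21,0,1),(8,22,0,1),(9,23,0,1),(10,24,0,1)],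
    [(2,13,0,1),(4,17,0,1),(7,19,0,1),(8,20,0,1),(10,23,0,1),(14,25,0,1)],
    [(2,12,0,1),(5,17,0,1),(7,18,0,1),(9,20,0,1),(10,22,0,1),(15,25,0,1)],
    [(2,11,0,1),(6,17,0,1),(8,18,0,1),(9,19,0,1),(10,21,0,1),(16,25,0,1)],
    [(0,24,0,1),(1,24,0,1),(2,10,0,1),(3,0,0,1),(3,1,0,1),(4,14,0,1),(5,15,0,1),(6,16,0,1),(11,21,0,1),(12,22,0,1),(13,23,0,1),(17,25,0,1)]]

noncomputable def f4IsoPhi2 : List (List (PolyMat.Term)) := [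
    [(0,23,0,1),(2,9,0,1),(3,13,0,1),(4,1,0,1),(7,15,0,1),(8,16,0,1),(11,19,0,1),(12,20,0,1),(14,24,0,1),(18,25,0,1)],
    [(0,22,0,1),(2,8,0,1),(3,12,0,1),(5,1,0,1),(7,14,0,1),(9,16,0,1),(11,18,0,1),(13,20,0,1),(15,24,0,1),(19,25,0,1)],
    [(0,21,0,1),(2,7,0,1),(3,11,0,1),(6,1,0,1),(8,14,0,1),(9,15,0,1),(12,18,0,1),(13,19,0,1),(16,24,0,1),(20,25,0,1)],
    [(0,20,0,1),(1,20,0,1),(2,6,0,1),(4,12,0,1),(5,13,0,1),(7,0,0,1),(7,1,0,1),(10,16,0,1),(11,17,0,1),(14,22,0,1),(15,23,0,1),(21,25,0,1)],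
    [(0,19,0,1),(1,19,0,1),(2,5,0,1),(4,11,0,1),(6,13,0,1),(8,0,0,1),(8,1,0,1),(10,15,0,1),(12,17,0,1),(14,21,0,1),(16,23,0,1),(22,25,0,1)],
    [(0,18,0,1),(1,18,0,1),(2,4,0,1),(5,11,0,1),(6,12,0,1),(9,0,0,1),(9,1,0,1),(10,14,0,1),(13,17,0,1),(15,21,0,1),(16,22,0,1),(23,25,0,1)]]

noncomputable def f4IsoPhi3 : List (List (PolyMat.Term)) := [
    [(0,17,0,1),(2,3,0,1),(7,11,0,1),(8,12,0,1),(9,13,0,1),(10,1,0,1),(14,18,0,1),(15,19,0,1),(16,20,0,1),(24,25,0,1)],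
    [(3,9,0,1),(4,10,0,1),(11,15,0,1),(12,16,0,1),(17,23,0,1),(18,24,0,1)],
    [(3,8,0,1),(5,10,0,1),(11,14,0,1),(13,16,0,1),(17,22,0,1),(19,24,0,1)],
    [(3,7,0,1),(6,10,0,1),(12,14,0,1),(13,15,0,1),(17,21,0,1),(20,24,0,1)],
    [(1,16,0,1),(3,6,0,1),(4,8,0,1),(5,9,0,1),(7,10,0,1),(11,0,0,1),(17,20,0,1),(18,22,0,1),(19,23,0,1),(21,24,0,1)],
    [(1,15,0,1),(3,5,0,1),(4,7,0,1),(6,9,0,1),(8,10,0,1),(12,0,0,1),(17,19,0,1),(18,21,0,1),(20,23,0,1),(22,24,0,1)]]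

noncomputable def f4IsoPhi4 : List (List (PolyMat.Term)) := [
    [(1,14,0,1),(3,4,0,1),(5,7,0,1),(6,8,0,1),(9,10,0,1),(13,0,0,1),(17,18,0,1),(19,21,0,1),(20,22,0,1),(23,24,0,1)],
    [(4,6,0,1),(7,9,0,1),(11,13,0,1),(14,16,0,1),(18,20,0,1),(21,23,0,1)],
    [(4,5,0,1),(8,9,0,1),(12,13,0,1),(14,15,0,1),(18,19,0,1),(22,23,0,1)],
    [(5,6,0,1),(7,8,0,1),(11,12,0,1),(15,16,0,1),(19,20,0,1),(21,22,0,1)],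
    [(6,5,0,1),(8,7,0,1),(12,11,0,1),(16,15,0,1),(20,19,0,1),(22,21,0,1)],
    [(5,4,0,1),(9,8,0,1),(13,12,0,1),(15,14,0,1),(19,18,0,1),(23,22,0,1)]]

noncomputable def f4IsoPhi5 : List (List (PolyMat.Term)) := [
    [(6,4,0,1),(9,7,0,1),(13,11,0,1),(16,14,0,1),(20,18,0,1),(23,21,0,1)],
    [(1,13,0,1),(4,3,0,1),(7,5,0,1),(8,6,0,1),(10,9,0,1),(14,0,0,1),(18,17,0,1),(21,19,0,1),(22,20,0,1),(24,23,0,1)],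
    [(1,12,0,1),(5,3,0,1),(7,4,0,1),(9,6,0,1),(10,8,0,1),(15,0,0,1),(19,17,0,1),(21,18,0,1),(23,20,0,1),(24,22,0,1)],
    [(1,11,0,1),(6,3,0,1),(8,4,0,1),(9,5,0,1),(10,7,0,1),(16,0,0,1),(20,17,0,1),(22,18,0,1),(23,19,0,1),(24,21,0,1)],
    [(7,3,0,1),(10,6,0,1),(14,12,0,1),(15,13,0,1),(21,17,0,1),(24,20,0,1)],
    [(8,3,0,1),(10,5,0,1),(14,11,0,1),(16,13,0,1),(22,17,0,1),(24,19,0,1)]]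

noncomputable def f4IsoPhi6 : List (List (PolyMat.Term)) := [
    [(9,3,0,1),(10,4,0,1),(15,11,0,1),(16,12,0,1),(23,17,0,1),(24,18,0,1)],
    [(0,10,0,1),(3,2,0,1),(11,7,0,1),(12,8,0,1),(13,9,0,1),(17,1,0,1),(18,14,0,1),(19,15,0,1),(20,16,0,1),(25,24,0,1)],
    [(0,9,0,1),(1,9,0,1),(4,2,0,1),(11,5,0,1),(12,6,0,1),(14,10,0,1),(17,13,0,1),(18,0,0,1),(18,1,0,1),(21,15,0,1),(22,16,0,1),(25,23,0,1)],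
    [(0,8,0,1),(1,8,0,1),(5,2,0,1),(11,4,0,1),(13,6,0,1),(15,10,0,1),(17,12,0,1),(19,0,0,1),(19,1,0,1),(21,14,0,1),(23,16,0,1),(25,22,0,1)],
    [(0,7,0,1),(1,7,0,1),(6,2,0,1),(12,4,0,1),(13,5,0,1),(16,10,0,1),(17,11,0,1),(20,0,0,1),(20,1,0,1),(22,14,0,1),(23,15,0,1),(25,21,0,1)],
    [(0,6,0,1),(7,2,0,1),(11,3,0,1),(14,8,0,1),(15,9,0,1),(18,12,0,1),(19,13,0,1),(21,1,0,1),(24,16,0,1),(25,20,0,1)]]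

noncomputable def f4IsoPhi7 : List (List (PolyMat.Term)) := [
    [(0,5,0,1),(8,2,0,1),(12,3,0,1),(14,7,0,1),(16,9,0,1),(18,11,0,1),(20,13,0,1),(22,1,0,1),(24,15,0,1),(25,19,0,1)],
    [(0,4,0,1),(9,2,0,1),(13,3,0,1),(15,7,0,1),(16,8,0,1),(19,11,0,1),(20,12,0,1),(23,1,0,1),(24,14,0,1),(25,18,0,1)],
    [(0,3,0,1),(1,3,0,1),(10,2,0,1),(14,4,0,1),(15,5,0,1),(16,6,0,1),(21,11,0,1),(22,12,0,1),(23,13,0,1),(24,0,0,1),(24,1,0,1),(25,17,0,1)],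
    [(11,2,0,1),(17,6,0,1),(18,8,0,1),(19,9,0,1),(21,10,0,1),(25,16,0,1)],
    [(12,2,0,1),(17,5,0,1),(18,7,0,1),(20,9,0,1),(22,10,0,1),(25,15,0,1)],
    [(13,2,0,1),(17,4,0,1),(19,7,0,1),(20,8,0,1),(23,10,0,1),(25,14,0,1)]]

noncomputable def f4IsoPhi8 : List (List (PolyMat.Term)) := [
    [(1,2,0,1),(17,3,0,1),(18,4,0,1),(19,5,0,1),(20,6,0,1),(21,7,0,1),(22,8,0,1),(23,9,0,1),(24,10,0,1),(25,0,0,1)],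
    [(14,2,0,1),(18,3,0,1),(21,5,0,1),(22,6,0,1),(24,9,0,1),(25,13,0,1)],
    [(15,2,0,1),(19,3,0,1),(21,4,0,1),(23,6,0,1),(24,8,0,1),(25,12,0,1)],
    [(16,2,0,1),(20,3,0,1),(22,4,0,1),(23,5,0,1),(24,7,0,1),(25,11,0,1)]]

noncomputable def f4IsoInv0 : List (List (ℕ × ℕ × ℤ)) := [
    [(2,2,1)],
    [(2,2,1),(3,3,1)],
    [(2,2,1),(3,3,1),(4,4,1)],
    [(4,4,1),(5,5,1)],
    [(2,16,1)],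
    [(2,15,1)]]

noncomputable def f4IsoInv1 : List (List (ℕ × ℕ × ℤ)) := [
    [(2,14,1)],
    [(1,25,1)],
    [(2,13,1)],
    [(2,12,1)],
    [(2,11,1)],
    [(0,24,1)]]

noncomputable def f4IsoInv2 : List (List (ℕ × ℕ × ℤ)) := [
    [(0,23,1)],
    [(0,22,1)],
    [(0,21,1)],
    [(0,20,1)],
    [(0,19,1)],
    [(0,18,1)]]

noncomputable def f4IsoInv3 : List (List (ℕ × ℕ × ℤ)) := [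
    [(0,17,1)],
    [(3,9,1)],
    [(3,8,1)],
    [(3,7,1)],
    [(1,16,1)],
    [(1,15,1)]]

noncomputable def f4IsoInv4 : List (List (ℕ × ℕ × ℤ)) := [
    [(1,14,1)],
    [(4,6,1)],
    [(4,5,1)],
    [(5,6,1)],
    [(6,5,1)],
    [(5,4,1)]]

noncomputable def f4IsoInv5 : List (List (ℕ × ℕ × ℤ)) := [
    [(6,4,1)],
    [(1,13,1)],
    [(1,12,1)],
    [(1,11,1)],
    [(7,3,1)],
    [(8,3,1)]]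

noncomputable def f4IsoInv6 : List (List (ℕ × ℕ × ℤ)) := [
    [(9,3,1)],
    [(0,10,1)],
    [(0,9,1)],
    [(0,8,1)],
    [(0,7,1)],
    [(0,6,1)]]

noncomputable def f4IsoInv7 : List (List (ℕ × ℕ × ℤ)) := [
    [(0,5,1)],
    [(0,4,1)],
    [(0,3,1)],
    [(11,2,1)],
    [(12,2,1)],
    [(13,2,1)]]

noncomputable def f4IsoInv8 : List (List (ℕ × ℕ × ℤ)) := [
    [(1,2,1)],
    [(14,2,1)],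
    [(15,2,1)],
    [(16,2,1)]]

noncomputable def f4IsoXs0 : List (List (PolyMat.Term)) := [
    [(0,0,0,1),(4,0,1,0),(1,1,0,1),(4,1,1,0),(2,2,0,1),(4,2,1,0),(3,3,0,1),(4,3,1,1),(4,4,0,1),(5,5,0,1),(6,6,0,1),(7,7,0,1),(8,8,0,1),(9,9,0,1),(10,10,0,1),(11,11,0,1),(12,12,0,1),(13,13,0,1),(14,14,0,1),(15,15,0,1),(16,16,0,1),(17,17,0,1),(18,18,0,1),(19,19,0,1),(20,20,0,1),(21,21,0,1),(22,22,0,1),(23,23,0,1),(24,24,0,1),(25,25,0,1),(26,26,0,1),(27,27,0,1),(28,28,0,1),(5,28,1,1),(29,29,0,1),(30,30,0,1),(6,30,1,1),(31,31,0,1),(32,32,0,1),(33,33,0,1),(7,33,1,1),(34,34,0,1),(35,35,0,1),(8,35,1,-1),(36,36,0,1),(9,36,1,1),(37,37,0,1),(38,38,0,1),(39,39,0,1),(40,40,0,1),(11,40,1,1),(41,41,0,1),(42,42,0,1),(12,42,1,-1),(43,43,0,1),(13,43,1,1),(44,44,0,1),(15,44,1,-1),(45,45,0,1),(46,46,0,1),(19,46,1,-1),(47,47,0,1),(20,47,1,1),(48,48,0,1),(22,48,1,-1),(49,49,0,1),(25,49,1,-1),(50,50,0,1),(27,50,1,-1),(51,51,0,1),(4,51,2,-1),(0,51,1,-1),(1,51,1,-2),(2,51,1,-3),(3,51,1,-2)],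
    [(0,0,0,1),(5,0,1,0),(1,1,0,1),(5,1,1,0),(2,2,0,1),(5,2,1,1),(3,3,0,1),(5,3,1,-1),(4,4,0,1),(5,5,0,1),(6,6,0,1),(7,7,0,1),(8,8,0,1),(9,9,0,1),(10,10,0,1),(11,11,0,1),(12,12,0,1),(13,13,0,1),(14,14,0,1),(15,15,0,1),(16,16,0,1),(17,17,0,1),(18,18,0,1),(19,19,0,1),(20,20,0,1),(21,21,0,1),(22,22,0,1),(23,23,0,1),(24,24,0,1),(25,25,0,1),(26,26,0,1),(27,27,0,1),(4,27,1,1),(28,28,0,1),(29,29,0,1),(6,29,1,1),(30,30,0,1),(31,31,0,1),(32,32,0,1),(7,32,1,1),(33,33,0,1),(34,34,0,1),(8,34,1,-1),(35,35,0,1),(36,36,0,1),(10,36,1,1),(37,37,0,1),(38,38,0,1),(39,39,0,1),(11,39,1,1),(40,40,0,1),(41,41,0,1),(12,41,1,-1),(42,42,0,1),(43,43,0,1),(14,43,1,1),(44,44,0,1),(16,44,1,-1),(45,45,0,1),(19,45,1,-1),(46,46,0,1),(47,47,0,1),(21,47,1,1),(48,48,0,1),(23,48,1,-1),(49,49,0,1),(26,49,1,-1),(50,50,0,1),(5,50,2,-1),(0,50,1,-1),(1,50,1,-2),(2,50,1,-3),(3,50,1,-1),(51,51,0,1),(28,51,1,-1)],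
    [(0,0,0,1),(6,0,1,0),(1,1,0,1),(6,1,1,2),(2,2,0,1),(6,2,1,-1),(3,3,0,1),(6,3,1,0),(4,4,0,1),(5,5,0,1),(6,6,0,1),(7,7,0,1),(8,8,0,1),(9,9,0,1),(10,10,0,1),(11,11,0,1),(12,12,0,1),(13,13,0,1),(14,14,0,1),(15,15,0,1),(16,16,0,1),(17,17,0,1),(18,18,0,1),(19,19,0,1),(20,20,0,1),(21,21,0,1),(22,22,0,1),(23,23,0,1),(24,24,0,1),(25,25,0,1),(4,25,1,1),(26,26,0,1),(5,26,1,1),(27,27,0,1),(28,28,0,1),(29,29,0,1),(30,30,0,1),(31,31,0,1),(7,31,1,1),(32,32,0,1),(33,33,0,1),(34,34,0,1),(9,34,1,-1),(35,35,0,1),(10,35,1,1),(36,36,0,1),(37,37,0,1),(38,38,0,1),(11,38,1,1),(39,39,0,1),(40,40,0,1),(41,41,0,1),(13,41,1,-1),(42,42,0,1),(14,42,1,1),(43,43,0,1),(44,44,0,1),(17,44,1,-1),(45,45,0,1),(20,45,1,-1),(46,46,0,1),(21,46,1,1),(47,47,0,1),(48,48,0,1),(24,48,1,-1),(49,49,0,1),(6,49,2,-1),(0,49,1,-1),(1,49,1,-2),(2,49,1,-2),(3,49,1,-1),(50,50,0,1),(29,50,1,-1),(51,51,0,1),(30,51,1,-1)],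
    [(0,0,0,1),(7,0,1,1),(1,1,0,1),(7,1,1,0),(2,2,0,1),(7,2,1,0),(3,3,0,1),(7,3,1,0),(4,4,0,1),(5,5,0,1),(6,6,0,1),(7,7,0,1),(8,8,0,1),(9,9,0,1),(10,10,0,1),(11,11,0,1),(12,12,0,1),(13,13,0,1),(14,14,0,1),(15,15,0,1),(16,16,0,1),(17,17,0,1),(18,18,0,1),(19,19,0,1),(20,20,0,1),(21,21,0,1),(22,22,0,1),(4,22,1,2),(23,23,0,1),(5,23,1,2),(24,24,0,1),(6,24,1,2),(25,25,0,1),(26,26,0,1),(27,27,0,1),(28,28,0,1),(29,29,0,1),(30,30,0,1),(31,31,0,1),(8,31,1,2),(32,32,0,1),(9,32,1,-2),(33,33,0,1),(10,33,1,2),(34,34,0,1),(35,35,0,1),(36,36,0,1),(37,37,0,1),(11,37,1,1),(38,38,0,1),(12,38,1,1),(39,39,0,1),(13,39,1,-1),(40,40,0,1),(14,40,1,1),(41,41,0,1),(15,41,1,-1),(42,42,0,1),(16,42,1,1),(43,43,0,1),(17,43,1,-1),(44,44,0,1),(18,44,1,-1),(45,45,0,1),(22,45,1,-1),(4,45,2,-1),(46,46,0,1),(23,46,1,1),(5,46,2,1),(47,47,0,1),(24,47,1,-1),(6,47,2,-1),(48,48,0,1),(7,48,2,-1),(0,48,1,-2),(1,48,1,-3),(2,48,1,-4),(3,48,1,-2),(49,49,0,1),(31,49,1,-1),(8,49,2,-1),(50,50,0,1),(32,50,1,-1),(9,50,2,1),(51,51,0,1),(33,51,1,-1),(10,51,2,-1)],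
    [(0,0,0,1),(8,0,1,2),(1,1,0,1),(8,1,1,-2),(2,2,0,1),(8,2,1,1),(3,3,0,1),(8,3,1,0),(4,4,0,1),(5,5,0,1),(6,6,0,1),(7,7,0,1),(8,8,0,1),(9,9,0,1),(10,10,0,1),(11,11,0,1),(12,12,0,1),(13,13,0,1),(14,14,0,1),(15,15,0,1),(16,16,0,1),(17,17,0,1),(18,18,0,1),(19,19,0,1),(20,20,0,1),(4,20,1,-1),(21,21,0,1),(5,21,1,-1),(22,22,0,1),(23,23,0,1),(24,24,0,1),(7,24,1,1),(25,25,0,1),(26,26,0,1),(27,27,0,1),(28,28,0,1),(29,29,0,1),(9,29,1,1),(30,30,0,1),(10,30,1,-1),(31,31,0,1),(32,32,0,1),(33,33,0,1),(34,34,0,1),(35,35,0,1),(36,36,0,1),(37,37,0,1),(12,37,1,1),(38,38,0,1),(39,39,0,1),(15,39,1,-1),(40,40,0,1),(16,40,1,1),(41,41,0,1),(42,42,0,1),(43,43,0,1),(18,43,1,-1),(44,44,0,1),(45,45,0,1),(25,45,1,1),(46,46,0,1),(26,46,1,-1),(47,47,0,1),(8,47,2,-1),(0,47,1,-1),(1,47,1,-1),(2,47,1,-2),(3,47,1,-1),(48,48,0,1),(31,48,1,-1),(49,49,0,1),(50,50,0,1),(34,50,1,1),(51,51,0,1),(35,51,1,1)],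
    [(0,0,0,1),(9,0,1,2),(1,1,0,1),(9,1,1,0),(2,2,0,1),(9,2,1,-1),(3,3,0,1),(9,3,1,1),(4,4,0,1),(5,5,0,1),(6,6,0,1),(7,7,0,1),(8,8,0,1),(9,9,0,1),(10,10,0,1),(11,11,0,1),(12,12,0,1),(13,13,0,1),(14,14,0,1),(15,15,0,1),(16,16,0,1),(17,17,0,1),(18,18,0,1),(19,19,0,1),(4,19,1,1),(20,20,0,1),(21,21,0,1),(6,21,1,-1),(22,22,0,1),(23,23,0,1),(7,23,1,-1),(24,24,0,1),(25,25,0,1),(26,26,0,1),(8,26,1,1),(27,27,0,1),(28,28,0,1),(10,28,1,1),(29,29,0,1),(30,30,0,1),(31,31,0,1),(32,32,0,1),(33,33,0,1),(34,34,0,1),(35,35,0,1),(36,36,0,1),(37,37,0,1),(13,37,1,1),(38,38,0,1),(15,38,1,-1),(39,39,0,1),(40,40,0,1),(17,40,1,1),(41,41,0,1),(42,42,0,1),(18,42,1,-1),(43,43,0,1),(44,44,0,1),(45,45,0,1),(27,45,1,-1),(46,46,0,1),(9,46,2,-1),(0,46,1,-1),(1,46,1,-1),(2,46,1,-1),(3,46,1,-1),(47,47,0,1),(29,47,1,-1),(48,48,0,1),(32,48,1,1),(49,49,0,1),(34,49,1,1),(50,50,0,1),(51,51,0,1),(36,51,1,-1)]]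

noncomputable def f4IsoXs1 : List (List (PolyMat.Term)) := [
    [(0,0,0,1),(10,0,1,2),(1,1,0,1),(10,1,1,0),(2,2,0,1),(10,2,1,0),(3,3,0,1),(10,3,1,-1),(4,4,0,1),(5,5,0,1),(6,6,0,1),(7,7,0,1),(8,8,0,1),(9,9,0,1),(10,10,0,1),(11,11,0,1),(12,12,0,1),(13,13,0,1),(14,14,0,1),(15,15,0,1),(16,16,0,1),(17,17,0,1),(18,18,0,1),(19,19,0,1),(5,19,1,1),(20,20,0,1),(6,20,1,1),(21,21,0,1),(22,22,0,1),(7,22,1,1),(23,23,0,1),(24,24,0,1),(25,25,0,1),(8,25,1,-1),(26,26,0,1),(27,27,0,1),(9,27,1,1),(28,28,0,1),(29,29,0,1),(30,30,0,1),(31,31,0,1),(32,32,0,1),(33,33,0,1),(34,34,0,1),(35,35,0,1),(36,36,0,1),(37,37,0,1),(14,37,1,1),(38,38,0,1),(16,38,1,-1),(39,39,0,1),(17,39,1,1),(40,40,0,1),(41,41,0,1),(18,41,1,-1),(42,42,0,1),(43,43,0,1),(44,44,0,1),(45,45,0,1),(10,45,2,-1),(0,45,1,-1),(1,45,1,-1),(2,45,1,-1),(3,45,1,0),(46,46,0,1),(28,46,1,-1),(47,47,0,1),(30,47,1,1),(48,48,0,1),(33,48,1,-1),(49,49,0,1),(35,49,1,-1),(50,50,0,1),(36,50,1,-1),(51,51,0,1)],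
    [(0,0,0,1),(11,0,1,-1),(1,1,0,1),(11,1,1,1),(2,2,0,1),(11,2,1,0),(3,3,0,1),(11,3,1,0),(4,4,0,1),(5,5,0,1),(6,6,0,1),(7,7,0,1),(8,8,0,1),(9,9,0,1),(10,10,0,1),(11,11,0,1),(12,12,0,1),(13,13,0,1),(14,14,0,1),(15,15,0,1),(4,15,1,2),(16,16,0,1),(5,16,1,2),(17,17,0,1),(6,17,1,2),(18,18,0,1),(7,18,1,1),(19,19,0,1),(20,20,0,1),(21,21,0,1),(22,22,0,1),(23,23,0,1),(24,24,0,1),(25,25,0,1),(26,26,0,1),(27,27,0,1),(28,28,0,1),(29,29,0,1),(30,30,0,1),(31,31,0,1),(12,31,1,1),(32,32,0,1),(13,32,1,-1),(33,33,0,1),(14,33,1,1),(34,34,0,1),(15,34,1,1),(4,34,2,1),(35,35,0,1),(16,35,1,-1),(5,35,2,-1),(36,36,0,1),(17,36,1,1),(6,36,2,1),(37,37,0,1),(38,38,0,1),(19,38,1,-2),(39,39,0,1),(20,39,1,2),(40,40,0,1),(21,40,1,-2),(41,41,0,1),(22,41,1,-1),(42,42,0,1),(23,42,1,1),(43,43,0,1),(24,43,1,-1),(44,44,0,1),(11,44,2,-1),(0,44,1,-1),(1,44,1,-3),(2,44,1,-4),(3,44,1,-2),(45,45,0,1),(46,46,0,1),(47,47,0,1),(48,48,0,1),(37,48,1,-1),(49,49,0,1),(38,49,1,-1),(19,49,2,1),(50,50,0,1),(39,50,1,-1),(20,50,2,-1),(51,51,0,1),(40,51,1,-1),(21,51,2,1)],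
    [(0,0,0,1),(12,0,1,0),(1,1,0,1),(12,1,1,-1),(2,2,0,1),(12,2,1,1),(3,3,0,1),(12,3,1,0),(4,4,0,1),(5,5,0,1),(6,6,0,1),(7,7,0,1),(8,8,0,1),(9,9,0,1),(10,10,0,1),(11,11,0,1),(12,12,0,1),(13,13,0,1),(4,13,1,-2),(14,14,0,1),(5,14,1,-2),(15,15,0,1),(16,16,0,1),(17,17,0,1),(7,17,1,1),(18,18,0,1),(8,18,1,2),(19,19,0,1),(20,20,0,1),(21,21,0,1),(22,22,0,1),(23,23,0,1),(24,24,0,1),(11,24,1,1),(25,25,0,1),(26,26,0,1),(27,27,0,1),(28,28,0,1),(29,29,0,1),(13,29,1,1),(4,29,2,-1),(30,30,0,1),(14,30,1,-1),(5,30,2,1),(31,31,0,1),(32,32,0,1),(15,32,1,1),(33,33,0,1),(16,33,1,-1),(34,34,0,1),(35,35,0,1),(36,36,0,1),(18,36,1,1),(8,36,2,1),(37,37,0,1),(19,37,1,-2),(38,38,0,1),(39,39,0,1),(22,39,1,1),(40,40,0,1),(23,40,1,-1),(41,41,0,1),(25,41,1,2),(42,42,0,1),(26,42,1,-2),(43,43,0,1),(12,43,2,-1),(0,43,1,-1),(1,43,1,-2),(2,43,1,-4),(3,43,1,-2),(44,44,0,1),(31,44,1,-1),(45,45,0,1),(46,46,0,1),(47,47,0,1),(37,47,1,-1),(19,47,2,1),(48,48,0,1),(38,48,1,-1),(49,49,0,1),(50,50,0,1),(41,50,1,1),(25,50,2,1),(51,51,0,1),(42,51,1,1),(26,51,2,-1)],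
    [(0,0,0,1),(13,0,1,0),(1,1,0,1),(13,1,1,1),(2,2,0,1),(13,2,1,-1),(3,3,0,1),(13,3,1,1),(4,4,0,1),(5,5,0,1),(6,6,0,1),(7,7,0,1),(8,8,0,1),(9,9,0,1),(10,10,0,1),(11,11,0,1),(12,12,0,1),(4,12,1,2),(13,13,0,1),(14,14,0,1),(6,14,1,-2),(15,15,0,1),(16,16,0,1),(7,16,1,-1),(17,17,0,1),(18,18,0,1),(9,18,1,2),(19,19,0,1),(20,20,0,1),(21,21,0,1),(22,22,0,1),(23,23,0,1),(11,23,1,-1),(24,24,0,1),(25,25,0,1),(26,26,0,1),(12,26,1,1),(4,26,2,1),(27,27,0,1),(28,28,0,1),(14,28,1,1),(6,28,2,-1),(29,29,0,1),(30,30,0,1),(31,31,0,1),(15,31,1,1),(32,32,0,1),(33,33,0,1),(17,33,1,-1),(34,34,0,1),(35,35,0,1),(18,35,1,1),(9,35,2,1),(36,36,0,1),(37,37,0,1),(20,37,1,-2),(38,38,0,1),(22,38,1,1),(39,39,0,1),(40,40,0,1),(24,40,1,-1),(41,41,0,1),(27,41,1,-2),(42,42,0,1),(13,42,2,-1),(0,42,1,-1),(1,42,1,-2),(2,42,1,-2),(3,42,1,-2),(43,43,0,1),(29,43,1,-2),(44,44,0,1),(32,44,1,1),(45,45,0,1),(46,46,0,1),(37,46,1,-1),(20,46,2,1),(47,47,0,1),(48,48,0,1),(39,48,1,1),(49,49,0,1),(41,49,1,1),(27,49,2,-1),(50,50,0,1),(51,51,0,1),(43,51,1,-1),(29,51,2,1)],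
    [(0,0,0,1),(14,0,1,0),(1,1,0,1),(14,1,1,1),(2,2,0,1),(14,2,1,0),(3,3,0,1),(14,3,1,-1),(4,4,0,1),(5,5,0,1),(6,6,0,1),(7,7,0,1),(8,8,0,1),(9,9,0,1),(10,10,0,1),(11,11,0,1),(12,12,0,1),(5,12,1,2),(13,13,0,1),(6,13,1,2),(14,14,0,1),(15,15,0,1),(7,15,1,1),(16,16,0,1),(17,17,0,1),(18,18,0,1),(10,18,1,2),(19,19,0,1),(20,20,0,1),(21,21,0,1),(22,22,0,1),(11,22,1,1),(23,23,0,1),(24,24,0,1),(25,25,0,1),(12,25,1,-1),(5,25,2,-1),(26,26,0,1),(27,27,0,1),(13,27,1,1),(6,27,2,1),(28,28,0,1),(29,29,0,1),(30,30,0,1),(31,31,0,1),(16,31,1,1),(32,32,0,1),(17,32,1,-1),(33,33,0,1),(34,34,0,1),(18,34,1,1),(10,34,2,1),(35,35,0,1),(36,36,0,1),(37,37,0,1),(21,37,1,-2),(38,38,0,1),(23,38,1,1),(39,39,0,1),(24,39,1,-1),(40,40,0,1),(41,41,0,1),(14,41,2,-1),(0,41,1,-1),(1,41,1,-2),(2,41,1,-2),(3,41,1,0),(42,42,0,1),(28,42,1,-2),(43,43,0,1),(30,43,1,2),(44,44,0,1),(33,44,1,-1),(45,45,0,1),(37,45,1,-1),(21,45,2,1),(46,46,0,1),(47,47,0,1),(48,48,0,1),(40,48,1,-1),(49,49,0,1),(42,49,1,-1),(28,49,2,1),(50,50,0,1),(43,50,1,-1),(30,50,2,-1),(51,51,0,1)],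
    [(0,0,0,1),(15,0,1,1),(1,1,0,1),(15,1,1,-1),(2,2,0,1),(15,2,1,0),(3,3,0,1),(15,3,1,1),(4,4,0,1),(5,5,0,1),(6,6,0,1),(7,7,0,1),(8,8,0,1),(9,9,0,1),(10,10,0,1),(11,11,0,1),(4,11,1,-2),(12,12,0,1),(13,13,0,1),(14,14,0,1),(7,14,1,-1),(15,15,0,1),(16,16,0,1),(8,16,1,-2),(17,17,0,1),(9,17,1,-2),(18,18,0,1),(19,19,0,1),(20,20,0,1),(21,21,0,1),(11,21,1,1),(4,21,2,-1),(22,22,0,1),(23,23,0,1),(12,23,1,1),(24,24,0,1),(13,24,1,1),(25,25,0,1),(26,26,0,1),(27,27,0,1),(28,28,0,1),(16,28,1,1),(8,28,2,-1),(29,29,0,1),(30,30,0,1),(17,30,1,1),(9,30,2,-1),(31,31,0,1),(32,32,0,1),(33,33,0,1),(18,33,1,1),(34,34,0,1),(35,35,0,1),(36,36,0,1),(37,37,0,1),(22,37,1,-1),(38,38,0,1),(25,38,1,-2),(39,39,0,1),(27,39,1,-2),(40,40,0,1),(15,40,2,-1),(0,40,1,-1),(1,40,1,-1),(2,40,1,-2),(3,40,1,-2),(41,41,0,1),(42,42,0,1),(31,42,1,-1),(43,43,0,1),(32,43,1,-1),(44,44,0,1),(34,44,1,-2),(45,45,0,1),(46,46,0,1),(38,46,1,1),(25,46,2,-1),(47,47,0,1),(39,47,1,1),(27,47,2,-1),(48,48,0,1),(41,48,1,1),(49,49,0,1),(50,50,0,1),(51,51,0,1),(44,51,1,1),(34,51,2,-1)]]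

noncomputable def f4IsoXs2 : List (List (PolyMat.Term)) := [
    [(0,0,0,1),(16,0,1,1),(1,1,0,1),(16,1,1,-1),(2,2,0,1),(16,2,1,1),(3,3,0,1),(16,3,1,-1),(4,4,0,1),(5,5,0,1),(6,6,0,1),(7,7,0,1),(8,8,0,1),(9,9,0,1),(10,10,0,1),(11,11,0,1),(5,11,1,-2),(12,12,0,1),(13,13,0,1),(7,13,1,1),(14,14,0,1),(15,15,0,1),(8,15,1,2),(16,16,0,1),(17,17,0,1),(10,17,1,-2),(18,18,0,1),(19,19,0,1),(20,20,0,1),(11,20,1,-1),(5,20,2,1),(21,21,0,1),(22,22,0,1),(12,22,1,-1),(23,23,0,1),(24,24,0,1),(14,24,1,1),(25,25,0,1),(26,26,0,1),(27,27,0,1),(15,27,1,1),(8,27,2,1),(28,28,0,1),(29,29,0,1),(17,29,1,1),(10,29,2,-1),(30,30,0,1),(31,31,0,1),(32,32,0,1),(18,32,1,1),(33,33,0,1),(34,34,0,1),(35,35,0,1),(36,36,0,1),(37,37,0,1),(23,37,1,-1),(38,38,0,1),(26,38,1,-2),(39,39,0,1),(16,39,2,-1),(0,39,1,-1),(1,39,1,-1),(2,39,1,-2),(3,39,1,0),(40,40,0,1),(28,40,1,-2),(41,41,0,1),(31,41,1,-1),(42,42,0,1),(43,43,0,1),(33,43,1,1),(44,44,0,1),(35,44,1,2),(45,45,0,1),(38,45,1,1),(26,45,2,-1),(46,46,0,1),(47,47,0,1),(40,47,1,-1),(28,47,2,1),(48,48,0,1),(42,48,1,-1),(49,49,0,1),(50,50,0,1),(44,50,1,1),(35,50,2,1),(51,51,0,1)],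
    [(0,0,0,1),(17,0,1,1),(1,1,0,1),(17,1,1,1),(2,2,0,1),(17,2,1,-1),(3,3,0,1),(17,3,1,0),(4,4,0,1),(5,5,0,1),(6,6,0,1),(7,7,0,1),(8,8,0,1),(9,9,0,1),(10,10,0,1),(11,11,0,1),(6,11,1,-2),(12,12,0,1),(7,12,1,-1),(13,13,0,1),(14,14,0,1),(15,15,0,1),(9,15,1,2),(16,16,0,1),(10,16,1,2),(17,17,0,1),(18,18,0,1),(19,19,0,1),(11,19,1,1),(6,19,2,-1),(20,20,0,1),(21,21,0,1),(22,22,0,1),(13,22,1,-1),(23,23,0,1),(14,23,1,-1),(24,24,0,1),(25,25,0,1),(15,25,1,1),(9,25,2,1),(26,26,0,1),(16,26,1,1),(10,26,2,1),(27,27,0,1),(28,28,0,1),(29,29,0,1),(30,30,0,1),(31,31,0,1),(18,31,1,1),(32,32,0,1),(33,33,0,1),(34,34,0,1),(35,35,0,1),(36,36,0,1),(37,37,0,1),(24,37,1,-1),(38,38,0,1),(17,38,2,-1),(0,38,1,-1),(1,38,1,-1),(2,38,1,0),(3,38,1,0),(39,39,0,1),(29,39,1,-2),(40,40,0,1),(30,40,1,-2),(41,41,0,1),(32,41,1,1),(42,42,0,1),(33,42,1,1),(43,43,0,1),(44,44,0,1),(36,44,1,-2),(45,45,0,1),(39,45,1,-1),(29,45,2,1),(46,46,0,1),(40,46,1,-1),(30,46,2,1),(47,47,0,1),(48,48,0,1),(43,48,1,1),(49,49,0,1),(44,49,1,1),(36,49,2,-1),(50,50,0,1),(51,51,0,1)],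
    [(0,0,0,1),(18,0,1,2),(1,1,0,1),(18,1,1,-1),(2,2,0,1),(18,2,1,0),(3,3,0,1),(18,3,1,0),(4,4,0,1),(5,5,0,1),(6,6,0,1),(7,7,0,1),(8,8,0,1),(9,9,0,1),(10,10,0,1),(11,11,0,1),(7,11,1,-1),(12,12,0,1),(8,12,1,-2),(13,13,0,1),(9,13,1,-2),(14,14,0,1),(10,14,1,-2),(15,15,0,1),(16,16,0,1),(17,17,0,1),(18,18,0,1),(19,19,0,1),(12,19,1,1),(8,19,2,-1),(20,20,0,1),(13,20,1,1),(9,20,2,-1),(21,21,0,1),(14,21,1,1),(10,21,2,-1),(22,22,0,1),(15,22,1,1),(23,23,0,1),(16,23,1,1),(24,24,0,1),(17,24,1,1),(25,25,0,1),(26,26,0,1),(27,27,0,1),(28,28,0,1),(29,29,0,1),(30,30,0,1),(31,31,0,1),(32,32,0,1),(33,33,0,1),(34,34,0,1),(35,35,0,1),(36,36,0,1),(37,37,0,1),(18,37,2,-1),(0,37,1,-1),(1,37,1,0),(2,37,1,0),(3,37,1,0),(38,38,0,1),(31,38,1,-1),(39,39,0,1),(32,39,1,-1),(40,40,0,1),(33,40,1,-1),(41,41,0,1),(34,41,1,-2),(42,42,0,1),(35,42,1,-2),(43,43,0,1),(36,43,1,-2),(44,44,0,1),(45,45,0,1),(41,45,1,1),(34,45,2,-1),(46,46,0,1),(42,46,1,1),(35,46,2,-1),(47,47,0,1),(43,47,1,1),(36,47,2,-1),(48,48,0,1),(44,48,1,1),(49,49,0,1),(50,50,0,1),(51,51,0,1)],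
    [(0,0,0,1),(19,0,1,-2),(1,1,0,1),(19,1,1,0),(2,2,0,1),(19,2,1,1),(3,3,0,1),(19,3,1,0),(4,4,0,1),(5,5,0,1),(6,6,0,1),(7,7,0,1),(8,8,0,1),(9,9,0,1),(4,9,1,-1),(10,10,0,1),(5,10,1,-1),(11,11,0,1),(12,12,0,1),(13,13,0,1),(14,14,0,1),(15,15,0,1),(16,16,0,1),(17,17,0,1),(11,17,1,-1),(18,18,0,1),(12,18,1,-1),(19,19,0,1),(20,20,0,1),(21,21,0,1),(22,22,0,1),(23,23,0,1),(24,24,0,1),(25,25,0,1),(26,26,0,1),(27,27,0,1),(28,28,0,1),(29,29,0,1),(20,29,1,1),(30,30,0,1),(21,30,1,-1),(31,31,0,1),(32,32,0,1),(22,32,1,1),(33,33,0,1),(23,33,1,-1),(34,34,0,1),(25,34,1,1),(35,35,0,1),(26,35,1,-1),(36,36,0,1),(19,36,2,-1),(0,36,1,0),(1,36,1,-1),(2,36,1,-2),(3,36,1,-1),(37,37,0,1),(38,38,0,1),(39,39,0,1),(40,40,0,1),(41,41,0,1),(42,42,0,1),(43,43,0,1),(37,43,1,1),(44,44,0,1),(38,44,1,1),(45,45,0,1),(46,46,0,1),(47,47,0,1),(48,48,0,1),(49,49,0,1),(50,50,0,1),(45,50,1,1),(51,51,0,1),(46,51,1,1)],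
    [(0,0,0,1),(20,0,1,-2),(1,1,0,1),(20,1,1,2),(2,2,0,1),(20,2,1,-1),(3,3,0,1),(20,3,1,1),(4,4,0,1),(5,5,0,1),(6,6,0,1),(7,7,0,1),(8,8,0,1),(4,8,1,1),(9,9,0,1),(10,10,0,1),(6,10,1,-1),(11,11,0,1),(12,12,0,1),(13,13,0,1),(14,14,0,1),(15,15,0,1),(16,16,0,1),(11,16,1,1),(17,17,0,1),(18,18,0,1),(13,18,1,-1),(19,19,0,1),(20,20,0,1),(21,21,0,1),(22,22,0,1),(23,23,0,1),(24,24,0,1),(25,25,0,1),(26,26,0,1),(19,26,1,1),(27,27,0,1),(28,28,0,1),(21,28,1,1),(29,29,0,1),(30,30,0,1),(31,31,0,1),(22,31,1,1),(32,32,0,1),(33,33,0,1),(24,33,1,-1),(34,34,0,1),(27,34,1,-1),(35,35,0,1),(20,35,2,-1),(0,35,1,0),(1,35,1,-1),(2,35,1,-1),(3,35,1,-1),(36,36,0,1),(29,36,1,-1),(37,37,0,1),(38,38,0,1),(39,39,0,1),(40,40,0,1),(41,41,0,1),(42,42,0,1),(37,42,1,1),(43,43,0,1),(44,44,0,1),(39,44,1,-1),(45,45,0,1),(46,46,0,1),(47,47,0,1),(48,48,0,1),(49,49,0,1),(45,49,1,1),(50,50,0,1),(51,51,0,1),(47,51,1,-1)],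
    [(0,0,0,1),(21,0,1,-2),(1,1,0,1),(21,1,1,2),(2,2,0,1),(21,2,1,0),(3,3,0,1),(21,3,1,-1),(4,4,0,1),(5,5,0,1),(6,6,0,1),(7,7,0,1),(8,8,0,1),(5,8,1,1),(9,9,0,1),(6,9,1,1),(10,10,0,1),(11,11,0,1),(12,12,0,1),(13,13,0,1),(14,14,0,1),(15,15,0,1),(11,15,1,-1),(16,16,0,1),(17,17,0,1),(18,18,0,1),(14,18,1,-1),(19,19,0,1),(20,20,0,1),(21,21,0,1),(22,22,0,1),(23,23,0,1),(24,24,0,1),(25,25,0,1),(19,25,1,-1),(26,26,0,1),(27,27,0,1),(20,27,1,1),(28,28,0,1),(29,29,0,1),(30,30,0,1),(31,31,0,1),(23,31,1,1),(32,32,0,1),(24,32,1,-1),(33,33,0,1),(34,34,0,1),(21,34,2,-1),(0,34,1,0),(1,34,1,-1),(2,34,1,-1),(3,34,1,0),(35,35,0,1),(28,35,1,-1),(36,36,0,1),(30,36,1,1),(37,37,0,1),(38,38,0,1),(39,39,0,1),(40,40,0,1),(41,41,0,1),(37,41,1,1),(42,42,0,1),(43,43,0,1),(44,44,0,1),(40,44,1,1),(45,45,0,1),(46,46,0,1),(47,47,0,1),(48,48,0,1),(49,49,0,1),(46,49,1,-1),(50,50,0,1),(47,50,1,-1),(51,51,0,1)]]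

noncomputable def f4IsoXs3 : List (List (PolyMat.Term)) := [
    [(0,0,0,1),(22,0,1,-1),(1,1,0,1),(22,1,1,0),(2,2,0,1),(22,2,1,0),(3,3,0,1),(22,3,1,1),(4,4,0,1),(5,5,0,1),(6,6,0,1),(7,7,0,1),(4,7,1,-2),(8,8,0,1),(9,9,0,1),(10,10,0,1),(7,10,1,-1),(4,10,2,1),(11,11,0,1),(12,12,0,1),(13,13,0,1),(14,14,0,1),(11,14,1,-1),(15,15,0,1),(16,16,0,1),(12,16,1,1),(17,17,0,1),(13,17,1,1),(18,18,0,1),(15,18,1,-1),(19,19,0,1),(20,20,0,1),(21,21,0,1),(22,22,0,1),(23,23,0,1),(19,23,1,2),(24,24,0,1),(20,24,1,2),(25,25,0,1),(26,26,0,1),(27,27,0,1),(28,28,0,1),(23,28,1,1),(19,28,2,1),(29,29,0,1),(30,30,0,1),(24,30,1,1),(20,30,2,1),(31,31,0,1),(25,31,1,-2),(32,32,0,1),(27,32,1,-2),(33,33,0,1),(22,33,2,-1),(0,33,1,0),(1,33,1,-1),(2,33,1,-2),(3,33,1,-2),(34,34,0,1),(35,35,0,1),(31,35,1,-1),(25,35,2,1),(36,36,0,1),(32,36,1,-1),(27,36,2,1),(37,37,0,1),(38,38,0,1),(39,39,0,1),(40,40,0,1),(37,40,1,1),(41,41,0,1),(42,42,0,1),(38,42,1,-1),(43,43,0,1),(39,43,1,-1),(44,44,0,1),(41,44,1,1),(45,45,0,1),(46,46,0,1),(47,47,0,1),(48,48,0,1),(45,48,1,2),(49,49,0,1),(50,50,0,1),(51,51,0,1),(48,51,1,1),(45,51,2,1)],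
    [(0,0,0,1),(23,0,1,-1),(1,1,0,1),(23,1,1,0),(2,2,0,1),(23,2,1,1),(3,3,0,1),(23,3,1,-1),(4,4,0,1),(5,5,0,1),(6,6,0,1),(7,7,0,1),(5,7,1,-2),(8,8,0,1),(9,9,0,1),(7,9,1,1),(5,9,2,-1),(10,10,0,1),(11,11,0,1),(12,12,0,1),(13,13,0,1),(11,13,1,1),(14,14,0,1),(15,15,0,1),(12,15,1,-1),(16,16,0,1),(17,17,0,1),(14,17,1,1),(18,18,0,1),(16,18,1,-1),(19,19,0,1),(20,20,0,1),(21,21,0,1),(22,22,0,1),(19,22,1,-2),(23,23,0,1),(24,24,0,1),(21,24,1,2),(25,25,0,1),(26,26,0,1),(27,27,0,1),(22,27,1,1),(19,27,2,-1),(28,28,0,1),(29,29,0,1),(24,29,1,1),(21,29,2,1),(30,30,0,1),(31,31,0,1),(26,31,1,-2),(32,32,0,1),(23,32,2,-1),(0,32,1,0),(1,32,1,-1),(2,32,1,-2),(3,32,1,0),(33,33,0,1),(28,33,1,-2),(34,34,0,1),(31,34,1,-1),(26,34,2,1),(35,35,0,1),(36,36,0,1),(33,36,1,1),(28,36,2,-1),(37,37,0,1),(38,38,0,1),(39,39,0,1),(37,39,1,1),(40,40,0,1),(41,41,0,1),(38,41,1,-1),(42,42,0,1),(43,43,0,1),(40,43,1,1),(44,44,0,1),(42,44,1,-1),(45,45,0,1),(46,46,0,1),(47,47,0,1),(48,48,0,1),(46,48,1,-2),(49,49,0,1),(50,50,0,1),(48,50,1,1),(46,50,2,-1),(51,51,0,1)],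
    [(0,0,0,1),(24,0,1,-1),(1,1,0,1),(24,1,1,2),(2,2,0,1),(24,2,1,-1),(3,3,0,1),(24,3,1,0),(4,4,0,1),(5,5,0,1),(6,6,0,1),(7,7,0,1),(6,7,1,-2),(8,8,0,1),(7,8,1,-1),(6,8,2,1),(9,9,0,1),(10,10,0,1),(11,11,0,1),(12,12,0,1),(11,12,1,-1),(13,13,0,1),(14,14,0,1),(15,15,0,1),(13,15,1,-1),(16,16,0,1),(14,16,1,-1),(17,17,0,1),(18,18,0,1),(17,18,1,-1),(19,19,0,1),(20,20,0,1),(21,21,0,1),(22,22,0,1),(20,22,1,-2),(23,23,0,1),(21,23,1,-2),(24,24,0,1),(25,25,0,1),(22,25,1,1),(20,25,2,-1),(26,26,0,1),(23,26,1,1),(21,26,2,-1),(27,27,0,1),(28,28,0,1),(29,29,0,1),(30,30,0,1),(31,31,0,1),(24,31,2,-1),(0,31,1,0),(1,31,1,-1),(2,31,1,0),(3,31,1,0),(32,32,0,1),(29,32,1,-2),(33,33,0,1),(30,33,1,-2),(34,34,0,1),(32,34,1,1),(29,34,2,-1),(35,35,0,1),(33,35,1,1),(30,35,2,-1),(36,36,0,1),(37,37,0,1),(38,38,0,1),(37,38,1,1),(39,39,0,1),(40,40,0,1),(41,41,0,1),(39,41,1,1),(42,42,0,1),(40,42,1,1),(43,43,0,1),(44,44,0,1),(43,44,1,1),(45,45,0,1),(46,46,0,1),(47,47,0,1),(48,48,0,1),(47,48,1,2),(49,49,0,1),(48,49,1,1),(47,49,2,1),(50,50,0,1),(51,51,0,1)],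
    [(0,0,0,1),(25,0,1,0),(1,1,0,1),(25,1,1,-2),(2,2,0,1),(25,2,1,1),(3,3,0,1),(25,3,1,1),(4,4,0,1),(5,5,0,1),(6,6,0,1),(4,6,1,-1),(7,7,0,1),(8,8,0,1),(9,9,0,1),(10,10,0,1),(8,10,1,1),(11,11,0,1),(12,12,0,1),(13,13,0,1),(14,14,0,1),(12,14,1,1),(15,15,0,1),(16,16,0,1),(17,17,0,1),(15,17,1,-1),(18,18,0,1),(19,19,0,1),(20,20,0,1),(21,21,0,1),(19,21,1,1),(22,22,0,1),(23,23,0,1),(24,24,0,1),(22,24,1,-1),(25,25,0,1),(26,26,0,1),(27,27,0,1),(28,28,0,1),(26,28,1,1),(29,29,0,1),(27,29,1,-1),(30,30,0,1),(25,30,2,-1),(0,30,1,0),(1,30,1,0),(2,30,1,-1),(3,30,1,-1),(31,31,0,1),(32,32,0,1),(33,33,0,1),(31,33,1,1),(34,34,0,1),(35,35,0,1),(36,36,0,1),(34,36,1,-1),(37,37,0,1),(38,38,0,1),(39,39,0,1),(40,40,0,1),(38,40,1,1),(41,41,0,1),(42,42,0,1),(43,43,0,1),(41,43,1,-1),(44,44,0,1),(45,45,0,1),(46,46,0,1),(47,47,0,1),(45,47,1,-1),(48,48,0,1),(49,49,0,1),(50,50,0,1),(51,51,0,1),(49,51,1,1)],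
    [(0,0,0,1),(26,0,1,0),(1,1,0,1),(26,1,1,-2),(2,2,0,1),(26,2,1,2),(3,3,0,1),(26,3,1,-1),(4,4,0,1),(5,5,0,1),(6,6,0,1),(5,6,1,-1),(7,7,0,1),(8,8,0,1),(9,9,0,1),(8,9,1,-1),(10,10,0,1),(11,11,0,1),(12,12,0,1),(13,13,0,1),(12,13,1,-1),(14,14,0,1),(15,15,0,1),(16,16,0,1),(17,17,0,1),(16,17,1,-1),(18,18,0,1),(19,19,0,1),(20,20,0,1),(19,20,1,-1),(21,21,0,1),(22,22,0,1),(23,23,0,1),(24,24,0,1),(23,24,1,-1),(25,25,0,1),(26,26,0,1),(27,27,0,1),(25,27,1,1),(28,28,0,1),(29,29,0,1),(26,29,2,-1),(0,29,1,0),(1,29,1,0),(2,29,1,-1),(3,29,1,0),(30,30,0,1),(28,30,1,-1),(31,31,0,1),(32,32,0,1),(31,32,1,1),(33,33,0,1),(34,34,0,1),(35,35,0,1),(36,36,0,1),(35,36,1,1),(37,37,0,1),(38,38,0,1),(39,39,0,1),(38,39,1,1),(40,40,0,1),(41,41,0,1),(42,42,0,1),(43,43,0,1),(42,43,1,1),(44,44,0,1),(45,45,0,1),(46,46,0,1),(47,47,0,1),(46,47,1,1),(48,48,0,1),(49,49,0,1),(50,50,0,1),(49,50,1,1),(51,51,0,1)],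
    [(0,0,0,1),(27,0,1,0),(1,1,0,1),(27,1,1,0),(2,2,0,1),(27,2,1,-1),(3,3,0,1),(27,3,1,2),(4,4,0,1),(5,5,0,1),(4,5,1,-1),(6,6,0,1),(7,7,0,1),(8,8,0,1),(9,9,0,1),(10,10,0,1),(9,10,1,-1),(11,11,0,1),(12,12,0,1),(13,13,0,1),(14,14,0,1),(13,14,1,-1),(15,15,0,1),(16,16,0,1),(15,16,1,-1),(17,17,0,1),(18,18,0,1),(19,19,0,1),(20,20,0,1),(21,21,0,1),(20,21,1,-1),(22,22,0,1),(23,23,0,1),(22,23,1,-1),(24,24,0,1),(25,25,0,1),(26,26,0,1),(25,26,1,-1),(27,27,0,1),(28,28,0,1),(27,28,2,-1),(0,28,1,0),(1,28,1,0),(2,28,1,0),(3,28,1,-1),(29,29,0,1),(30,30,0,1),(29,30,1,1),(31,31,0,1),(32,32,0,1),(33,33,0,1),(32,33,1,1),(34,34,0,1),(35,35,0,1),(34,35,1,1),(36,36,0,1),(37,37,0,1),(38,38,0,1),(39,39,0,1),(40,40,0,1),(39,40,1,1),(41,41,0,1),(42,42,0,1),(41,42,1,1),(43,43,0,1),(44,44,0,1),(45,45,0,1),(46,46,0,1),(45,46,1,1),(47,47,0,1),(48,48,0,1),(49,49,0,1),(50,50,0,1),(51,51,0,1),(50,51,1,1)]]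

noncomputable def f4IsoXs4 : List (List (PolyMat.Term)) := [
    [(0,0,0,1),(28,0,1,0),(1,1,0,1),(28,1,1,0),(2,2,0,1),(28,2,1,1),(3,3,0,1),(28,3,1,-2),(4,4,0,1),(5,4,1,-1),(5,5,0,1),(6,6,0,1),(7,7,0,1),(8,8,0,1),(9,9,0,1),(10,9,1,-1),(10,10,0,1),(11,11,0,1),(12,12,0,1),(13,13,0,1),(14,13,1,-1),(14,14,0,1),(15,15,0,1),(16,15,1,-1),(16,16,0,1),(17,17,0,1),(18,18,0,1),(19,19,0,1),(20,20,0,1),(21,20,1,-1),(21,21,0,1),(22,22,0,1),(23,22,1,-1),(23,23,0,1),(24,24,0,1),(25,25,0,1),(26,25,1,-1),(26,26,0,1),(27,27,0,1),(28,27,2,-1),(0,27,1,0),(1,27,1,0),(2,27,1,0),(3,27,1,1),(28,28,0,1),(29,29,0,1),(30,29,1,1),(30,30,0,1),(31,31,0,1),(32,32,0,1),(33,32,1,1),(33,33,0,1),(34,34,0,1),(35,34,1,1),(35,35,0,1),(36,36,0,1),(37,37,0,1),(38,38,0,1),(39,39,0,1),(40,39,1,1),(40,40,0,1),(41,41,0,1),(42,41,1,1),(42,42,0,1),(43,43,0,1),(44,44,0,1),(45,45,0,1),(46,45,1,1),(46,46,0,1),(47,47,0,1),(48,48,0,1),(49,49,0,1),(50,50,0,1),(51,50,1,1),(51,51,0,1)],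
    [(0,0,0,1),(29,0,1,0),(1,1,0,1),(29,1,1,2),(2,2,0,1),(29,2,1,-2),(3,3,0,1),(29,3,1,1),(4,4,0,1),(5,5,0,1),(6,5,1,-1),(6,6,0,1),(7,7,0,1),(8,8,0,1),(9,8,1,-1),(9,9,0,1),(10,10,0,1),(11,11,0,1),(12,12,0,1),(13,12,1,-1),(13,13,0,1),(14,14,0,1),(15,15,0,1),(16,16,0,1),(17,16,1,-1),(17,17,0,1),(18,18,0,1),(19,19,0,1),(20,19,1,-1),(20,20,0,1),(21,21,0,1),(22,22,0,1),(23,23,0,1),(24,23,1,-1),(24,24,0,1),(25,25,0,1),(27,25,1,1),(26,26,0,1),(29,26,2,-1),(0,26,1,0),(1,26,1,0),(2,26,1,1),(3,26,1,0),(27,27,0,1),(28,28,0,1),(30,28,1,-1),(29,29,0,1),(30,30,0,1),(31,31,0,1),(32,31,1,1),(32,32,0,1),(33,33,0,1),(34,34,0,1),(35,35,0,1),(36,35,1,1),(36,36,0,1),(37,37,0,1),(38,38,0,1),(39,38,1,1),(39,39,0,1),(40,40,0,1),(41,41,0,1),(42,42,0,1),(43,42,1,1),(43,43,0,1),(44,44,0,1),(45,45,0,1),(46,46,0,1),(47,46,1,1),(47,47,0,1),(48,48,0,1),(49,49,0,1),(50,49,1,1),(50,50,0,1),(51,51,0,1)],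
    [(0,0,0,1),(30,0,1,0),(1,1,0,1),(30,1,1,2),(2,2,0,1),(30,2,1,-1),(3,3,0,1),(30,3,1,-1),(4,4,0,1),(6,4,1,-1),(5,5,0,1),(6,6,0,1),(7,7,0,1),(8,8,0,1),(10,8,1,1),(9,9,0,1),(10,10,0,1),(11,11,0,1),(12,12,0,1),(14,12,1,1),(13,13,0,1),(14,14,0,1),(15,15,0,1),(17,15,1,-1),(16,16,0,1),(17,17,0,1),(18,18,0,1),(19,19,0,1),(21,19,1,1),(20,20,0,1),(21,21,0,1),(22,22,0,1),(24,22,1,-1),(23,23,0,1),(24,24,0,1),(25,25,0,1),(30,25,2,-1),(0,25,1,0),(1,25,1,0),(2,25,1,1),(3,25,1,1),(26,26,0,1),(28,26,1,1),(27,27,0,1),(29,27,1,-1),(28,28,0,1),(29,29,0,1),(30,30,0,1),(31,31,0,1),(33,31,1,1),(32,32,0,1),(33,33,0,1),(34,34,0,1),(36,34,1,-1),(35,35,0,1),(36,36,0,1),(37,37,0,1),(38,38,0,1),(40,38,1,1),(39,39,0,1),(40,40,0,1),(41,41,0,1),(43,41,1,-1),(42,42,0,1),(43,43,0,1),(44,44,0,1),(45,45,0,1),(47,45,1,-1),(46,46,0,1),(47,47,0,1),(48,48,0,1),(49,49,0,1),(51,49,1,1),(50,50,0,1),(51,51,0,1)],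
    [(0,0,0,1),(31,0,1,1),(1,1,0,1),(31,1,1,-2),(2,2,0,1),(31,2,1,1),(3,3,0,1),(31,3,1,0),(4,4,0,1),(5,5,0,1),(6,6,0,1),(7,6,1,-1),(8,6,2,1),(7,7,0,1),(8,7,1,-2),(8,8,0,1),(9,9,0,1),(10,10,0,1),(11,11,0,1),(12,11,1,-1),(12,12,0,1),(13,13,0,1),(15,13,1,-1),(14,14,0,1),(16,14,1,-1),(15,15,0,1),(16,16,0,1),(17,17,0,1),(18,17,1,-1),(18,18,0,1),(19,19,0,1),(20,20,0,1),(22,20,1,-1),(25,20,2,-1),(21,21,0,1),(23,21,1,-1),(26,21,2,-1),(22,22,0,1),(25,22,1,2),(23,23,0,1),(26,23,1,2),(24,24,0,1),(31,24,2,-1),(0,24,1,0),(1,24,1,1),(2,24,1,0),(3,24,1,0),(25,25,0,1),(26,26,0,1),(27,27,0,1),(28,28,0,1),(29,29,0,1),(32,29,1,-1),(34,29,2,-1),(30,30,0,1),(33,30,1,-1),(35,30,2,-1),(31,31,0,1),(32,32,0,1),(34,32,1,2),(33,33,0,1),(35,33,1,2),(34,34,0,1),(35,35,0,1),(36,36,0,1),(37,37,0,1),(38,37,1,1),(38,38,0,1),(39,39,0,1),(41,39,1,1),(40,40,0,1),(42,40,1,1),(41,41,0,1),(42,42,0,1),(43,43,0,1),(44,43,1,1),(44,44,0,1),(45,45,0,1),(46,46,0,1),(47,47,0,1),(48,47,1,1),(49,47,2,1),(48,48,0,1),(49,48,1,2),(49,49,0,1),(50,50,0,1),(51,51,0,1)],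
    [(0,0,0,1),(32,0,1,1),(1,1,0,1),(32,1,1,0),(2,2,0,1),(32,2,1,-1),(3,3,0,1),(32,3,1,1),(4,4,0,1),(5,5,0,1),(7,5,1,-1),(9,5,2,-1),(6,6,0,1),(7,7,0,1),(9,7,1,2),(8,8,0,1),(9,9,0,1),(10,10,0,1),(11,11,0,1),(13,11,1,1),(12,12,0,1),(15,12,1,-1),(13,13,0,1),(14,14,0,1),(17,14,1,1),(15,15,0,1),(16,16,0,1),(18,16,1,-1),(17,17,0,1),(18,18,0,1),(19,19,0,1),(22,19,1,-1),(27,19,2,-1),(20,20,0,1),(21,21,0,1),(24,21,1,1),(29,21,2,1),(22,22,0,1),(27,22,1,2),(23,23,0,1),(32,23,2,-1),(0,23,1,0),(1,23,1,1),(2,23,1,2),(3,23,1,0),(24,24,0,1),(29,24,1,2),(25,25,0,1),(26,26,0,1),(31,26,1,-1),(34,26,2,1),(27,27,0,1),(28,28,0,1),(33,28,1,-1),(36,28,2,-1),(29,29,0,1),(30,30,0,1),(31,31,0,1),(34,31,1,-2),(32,32,0,1),(33,33,0,1),(36,33,1,2),(34,34,0,1),(35,35,0,1),(36,36,0,1),(37,37,0,1),(39,37,1,1),(38,38,0,1),(41,38,1,-1),(39,39,0,1),(40,40,0,1),(43,40,1,1),(41,41,0,1),(42,42,0,1),(44,42,1,-1),(43,43,0,1),(44,44,0,1),(45,45,0,1),(46,46,0,1),(48,46,1,-1),(50,46,2,-1),(47,47,0,1),(48,48,0,1),(50,48,1,2),(49,49,0,1),(50,50,0,1),(51,51,0,1)],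
    [(0,0,0,1),(33,0,1,1),(1,1,0,1),(33,1,1,0),(2,2,0,1),(33,2,1,0),(3,3,0,1),(33,3,1,-1),(4,4,0,1),(7,4,1,-1),(10,4,2,1),(5,5,0,1),(6,6,0,1),(7,7,0,1),(10,7,1,-2),(8,8,0,1),(9,9,0,1),(10,10,0,1),(11,11,0,1),(14,11,1,-1),(12,12,0,1),(16,12,1,1),(13,13,0,1),(17,13,1,1),(14,14,0,1),(15,15,0,1),(18,15,1,-1),(16,16,0,1),(17,17,0,1),(18,18,0,1),(19,19,0,1),(23,19,1,1),(28,19,2,1),(20,20,0,1),(24,20,1,1),(30,20,2,1),(21,21,0,1),(22,22,0,1),(33,22,2,-1),(0,22,1,0),(1,22,1,1),(2,22,1,2),(3,22,1,2),(23,23,0,1),(28,23,1,2),(24,24,0,1),(30,24,1,2),(25,25,0,1),(31,25,1,-1),(35,25,2,1),(26,26,0,1),(27,27,0,1),(32,27,1,-1),(36,27,2,1),(28,28,0,1),(29,29,0,1),(30,30,0,1),(31,31,0,1),(35,31,1,-2),(32,32,0,1),(36,32,1,-2),(33,33,0,1),(34,34,0,1),(35,35,0,1),(36,36,0,1),(37,37,0,1),(40,37,1,1),(38,38,0,1),(42,38,1,-1),(39,39,0,1),(43,39,1,-1),(40,40,0,1),(41,41,0,1),(44,41,1,1),(42,42,0,1),(43,43,0,1),(44,44,0,1),(45,45,0,1),(48,45,1,1),(51,45,2,1),(46,46,0,1),(47,47,0,1),(48,48,0,1),(51,48,1,2),(49,49,0,1),(50,50,0,1),(51,51,0,1)]]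

noncomputable def f4IsoXs5 : List (List (PolyMat.Term)) := [
    [(0,0,0,1),(34,0,1,2),(1,1,0,1),(34,1,1,-2),(2,2,0,1),(34,2,1,0),(3,3,0,1),(34,3,1,1),(4,4,0,1),(5,5,0,1),(8,5,1,1),(6,6,0,1),(9,6,1,1),(7,7,0,1),(8,8,0,1),(9,9,0,1),(10,10,0,1),(11,11,0,1),(15,11,1,-1),(12,12,0,1),(13,13,0,1),(14,14,0,1),(18,14,1,-1),(15,15,0,1),(16,16,0,1),(17,17,0,1),(18,18,0,1),(19,19,0,1),(25,19,1,-1),(20,20,0,1),(27,20,1,1),(21,21,0,1),(34,21,2,-1),(0,21,1,0),(1,21,1,1),(2,21,1,1),(3,21,1,0),(22,22,0,1),(23,23,0,1),(31,23,1,1),(24,24,0,1),(32,24,1,-1),(25,25,0,1),(26,26,0,1),(27,27,0,1),(28,28,0,1),(35,28,1,-1),(29,29,0,1),(30,30,0,1),(36,30,1,1),(31,31,0,1),(32,32,0,1),(33,33,0,1),(34,34,0,1),(35,35,0,1),(36,36,0,1),(37,37,0,1),(41,37,1,1),(38,38,0,1),(39,39,0,1),(40,40,0,1),(44,40,1,1),(41,41,0,1),(42,42,0,1),(43,43,0,1),(44,44,0,1),(45,45,0,1),(46,46,0,1),(49,46,1,-1),(47,47,0,1),(50,47,1,-1),(48,48,0,1),(49,49,0,1),(50,50,0,1),(51,51,0,1)],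
    [(0,0,0,1),(35,0,1,2),(1,1,0,1),(35,1,1,-2),(2,2,0,1),(35,2,1,1),(3,3,0,1),(35,3,1,-1),(4,4,0,1),(8,4,1,1),(5,5,0,1),(6,6,0,1),(10,6,1,-1),(7,7,0,1),(8,8,0,1),(9,9,0,1),(10,10,0,1),(11,11,0,1),(16,11,1,1),(12,12,0,1),(13,13,0,1),(18,13,1,-1),(14,14,0,1),(15,15,0,1),(16,16,0,1),(17,17,0,1),(18,18,0,1),(19,19,0,1),(26,19,1,1),(20,20,0,1),(35,20,2,-1),(0,20,1,0),(1,20,1,1),(2,20,1,1),(3,20,1,1),(21,21,0,1),(28,21,1,1),(22,22,0,1),(31,22,1,1),(23,23,0,1),(24,24,0,1),(33,24,1,-1),(25,25,0,1),(26,26,0,1),(27,27,0,1),(34,27,1,-1),(28,28,0,1),(29,29,0,1),(36,29,1,-1),(30,30,0,1),(31,31,0,1),(32,32,0,1),(33,33,0,1),(34,34,0,1),(35,35,0,1),(36,36,0,1),(37,37,0,1),(42,37,1,1),(38,38,0,1),(39,39,0,1),(44,39,1,-1),(40,40,0,1),(41,41,0,1),(42,42,0,1),(43,43,0,1),(44,44,0,1),(45,45,0,1),(49,45,1,1),(46,46,0,1),(47,47,0,1),(51,47,1,-1),(48,48,0,1),(49,49,0,1),(50,50,0,1),(51,51,0,1)],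
    [(0,0,0,1),(36,0,1,2),(1,1,0,1),(36,1,1,0),(2,2,0,1),(36,2,1,-1),(3,3,0,1),(36,3,1,0),(4,4,0,1),(9,4,1,-1),(5,5,0,1),(10,5,1,-1),(6,6,0,1),(7,7,0,1),(8,8,0,1),(9,9,0,1),(10,10,0,1),(11,11,0,1),(17,11,1,-1),(12,12,0,1),(18,12,1,-1),(13,13,0,1),(14,14,0,1),(15,15,0,1),(16,16,0,1),(17,17,0,1),(18,18,0,1),(19,19,0,1),(36,19,2,-1),(0,19,1,0),(1,19,1,1),(2,19,1,2),(3,19,1,1),(20,20,0,1),(29,20,1,1),(21,21,0,1),(30,21,1,-1),(22,22,0,1),(32,22,1,1),(23,23,0,1),(33,23,1,-1),(24,24,0,1),(25,25,0,1),(34,25,1,1),(26,26,0,1),(35,26,1,-1),(27,27,0,1),(28,28,0,1),(29,29,0,1),(30,30,0,1),(31,31,0,1),(32,32,0,1),(33,33,0,1),(34,34,0,1),(35,35,0,1),(36,36,0,1),(37,37,0,1),(43,37,1,1),(38,38,0,1),(44,38,1,1),(39,39,0,1),(40,40,0,1),(41,41,0,1),(42,42,0,1),(43,43,0,1),(44,44,0,1),(45,45,0,1),(50,45,1,1),(46,46,0,1),(51,46,1,1),(47,47,0,1),(48,48,0,1),(49,49,0,1),(50,50,0,1),(51,51,0,1)],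
    [(0,0,0,1),(37,0,1,-2),(1,1,0,1),(37,1,1,1),(2,2,0,1),(37,2,1,0),(3,3,0,1),(37,3,1,0),(4,4,0,1),(5,5,0,1),(6,6,0,1),(7,7,0,1),(11,7,1,-1),(8,8,0,1),(12,8,1,-1),(19,8,2,-1),(9,9,0,1),(13,9,1,-1),(20,9,2,-1),(10,10,0,1),(14,10,1,-1),(21,10,2,-1),(11,11,0,1),(12,12,0,1),(19,12,1,2),(13,13,0,1),(20,13,1,2),(14,14,0,1),(21,14,1,2),(15,15,0,1),(22,15,1,1),(16,16,0,1),(23,16,1,1),(17,17,0,1),(24,17,1,1),(18,18,0,1),(37,18,2,-1),(0,18,1,1),(1,18,1,0),(2,18,1,0),(3,18,1,0),(19,19,0,1),(20,20,0,1),(21,21,0,1),(22,22,0,1),(23,23,0,1),(24,24,0,1),(25,25,0,1),(26,26,0,1),(27,27,0,1),(28,28,0,1),(29,29,0,1),(30,30,0,1),(31,31,0,1),(38,31,1,-1),(32,32,0,1),(39,32,1,-1),(33,33,0,1),(40,33,1,-1),(34,34,0,1),(41,34,1,-1),(45,34,2,-1),(35,35,0,1),(42,35,1,-1),(46,35,2,-1),(36,36,0,1),(43,36,1,-1),(47,36,2,-1),(37,37,0,1),(38,38,0,1),(39,39,0,1),(40,40,0,1),(41,41,0,1),(45,41,1,2),(42,42,0,1),(46,42,1,2),(43,43,0,1),(47,43,1,2),(44,44,0,1),(48,44,1,1),(45,45,0,1),(46,46,0,1),(47,47,0,1),(48,48,0,1),(49,49,0,1),(50,50,0,1),(51,51,0,1)],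
    [(0,0,0,1),(38,0,1,-1),(1,1,0,1),(38,1,1,-1),(2,2,0,1),(38,2,1,1),(3,3,0,1),(38,3,1,0),(4,4,0,1),(5,5,0,1),(6,6,0,1),(11,6,1,-1),(19,6,2,-1),(7,7,0,1),(12,7,1,-1),(8,8,0,1),(9,9,0,1),(15,9,1,1),(25,9,2,1),(10,10,0,1),(16,10,1,1),(26,10,2,1),(11,11,0,1),(19,11,1,2),(12,12,0,1),(13,13,0,1),(22,13,1,-1),(14,14,0,1),(23,14,1,-1),(15,15,0,1),(25,15,1,2),(16,16,0,1),(26,16,1,2),(17,17,0,1),(38,17,2,-1),(0,17,1,1),(1,17,1,1),(2,17,1,0),(3,17,1,0),(18,18,0,1),(31,18,1,1),(19,19,0,1),(20,20,0,1),(21,21,0,1),(22,22,0,1),(23,23,0,1),(24,24,0,1),(37,24,1,-1),(25,25,0,1),(26,26,0,1),(27,27,0,1),(28,28,0,1),(29,29,0,1),(39,29,1,-1),(45,29,2,1),(30,30,0,1),(40,30,1,-1),(46,30,2,1),(31,31,0,1),(32,32,0,1),(41,32,1,1),(33,33,0,1),(42,33,1,1),(34,34,0,1),(35,35,0,1),(36,36,0,1),(44,36,1,-1),(49,36,2,-1),(37,37,0,1),(38,38,0,1),(39,39,0,1),(45,39,1,-2),(40,40,0,1),(46,40,1,-2),(41,41,0,1),(42,42,0,1),(43,43,0,1),(48,43,1,1),(44,44,0,1),(49,44,1,2),(45,45,0,1),(46,46,0,1),(47,47,0,1),(48,48,0,1),(49,49,0,1),(50,50,0,1),(51,51,0,1)],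
    [(0,0,0,1),(39,0,1,-1),(1,1,0,1),(39,1,1,1),(2,2,0,1),(39,2,1,-1),(3,3,0,1),(39,3,1,1),(4,4,0,1),(5,5,0,1),(11,5,1,-1),(20,5,2,1),(6,6,0,1),(7,7,0,1),(13,7,1,1),(8,8,0,1),(15,8,1,1),(27,8,2,1),(9,9,0,1),(10,10,0,1),(17,10,1,-1),(29,10,2,-1),(11,11,0,1),(20,11,1,-2),(12,12,0,1),(22,12,1,-1),(13,13,0,1),(14,14,0,1),(24,14,1,1),(15,15,0,1),(27,15,1,2),(16,16,0,1),(39,16,2,-1),(0,16,1,1),(1,16,1,1),(2,16,1,2),(3,16,1,0),(17,17,0,1),(29,17,1,2),(18,18,0,1),(32,18,1,1),(19,19,0,1),(20,20,0,1),(21,21,0,1),(22,22,0,1),(23,23,0,1),(37,23,1,-1),(24,24,0,1),(25,25,0,1),(26,26,0,1),(38,26,1,-1),(45,26,2,-1),(27,27,0,1),(28,28,0,1),(40,28,1,-1),(47,28,2,1),(29,29,0,1),(30,30,0,1),(31,31,0,1),(41,31,1,-1),(32,32,0,1),(33,33,0,1),(43,33,1,1),(34,34,0,1),(35,35,0,1),(44,35,1,1),(50,35,2,1),(36,36,0,1),(37,37,0,1),(38,38,0,1),(45,38,1,2),(39,39,0,1),(40,40,0,1),(47,40,1,-2),(41,41,0,1),(42,42,0,1),(48,42,1,-1),(43,43,0,1),(44,44,0,1),(50,44,1,2),(45,45,0,1),(46,46,0,1),(47,47,0,1),(48,48,0,1),(49,49,0,1),(50,50,0,1),(51,51,0,1)]]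

noncomputable def f4IsoXs6 : List (List (PolyMat.Term)) := [
    [(0,0,0,1),(40,0,1,-1),(1,1,0,1),(40,1,1,1),(2,2,0,1),(40,2,1,0),(3,3,0,1),(40,3,1,-1),(4,4,0,1),(11,4,1,-1),(21,4,2,-1),(5,5,0,1),(6,6,0,1),(7,7,0,1),(14,7,1,-1),(8,8,0,1),(16,8,1,-1),(28,8,2,-1),(9,9,0,1),(17,9,1,-1),(30,9,2,-1),(10,10,0,1),(11,11,0,1),(21,11,1,2),(12,12,0,1),(23,12,1,1),(13,13,0,1),(24,13,1,1),(14,14,0,1),(15,15,0,1),(40,15,2,-1),(0,15,1,1),(1,15,1,1),(2,15,1,2),(3,15,1,2),(16,16,0,1),(28,16,1,2),(17,17,0,1),(30,17,1,2),(18,18,0,1),(33,18,1,1),(19,19,0,1),(20,20,0,1),(21,21,0,1),(22,22,0,1),(37,22,1,-1),(23,23,0,1),(24,24,0,1),(25,25,0,1),(38,25,1,-1),(46,25,2,-1),(26,26,0,1),(27,27,0,1),(39,27,1,-1),(47,27,2,-1),(28,28,0,1),(29,29,0,1),(30,30,0,1),(31,31,0,1),(42,31,1,-1),(32,32,0,1),(43,32,1,-1),(33,33,0,1),(34,34,0,1),(44,34,1,-1),(51,34,2,-1),(35,35,0,1),(36,36,0,1),(37,37,0,1),(38,38,0,1),(46,38,1,2),(39,39,0,1),(47,39,1,2),(40,40,0,1),(41,41,0,1),(48,41,1,1),(42,42,0,1),(43,43,0,1),(44,44,0,1),(51,44,1,2),(45,45,0,1),(46,46,0,1),(47,47,0,1),(48,48,0,1),(49,49,0,1),(50,50,0,1),(51,51,0,1)],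
    [(0,0,0,1),(41,0,1,0),(1,1,0,1),(41,1,1,-1),(2,2,0,1),(41,2,1,0),(3,3,0,1),(41,3,1,1),(4,4,0,1),(5,5,0,1),(12,5,1,1),(25,5,2,-1),(6,6,0,1),(13,6,1,1),(27,6,2,1),(7,7,0,1),(15,7,1,1),(8,8,0,1),(9,9,0,1),(10,10,0,1),(18,10,1,1),(34,10,2,1),(11,11,0,1),(22,11,1,1),(12,12,0,1),(25,12,1,-2),(13,13,0,1),(27,13,1,2),(14,14,0,1),(41,14,2,-1),(0,14,1,1),(1,14,1,2),(2,14,1,2),(3,14,1,0),(15,15,0,1),(16,16,0,1),(31,16,1,1),(17,17,0,1),(32,17,1,-1),(18,18,0,1),(34,18,1,2),(19,19,0,1),(20,20,0,1),(21,21,0,1),(37,21,1,-1),(45,21,2,1),(22,22,0,1),(23,23,0,1),(38,23,1,1),(24,24,0,1),(39,24,1,-1),(25,25,0,1),(26,26,0,1),(27,27,0,1),(28,28,0,1),(42,28,1,-1),(49,28,2,1),(29,29,0,1),(30,30,0,1),(43,30,1,1),(50,30,2,-1),(31,31,0,1),(32,32,0,1),(33,33,0,1),(44,33,1,-1),(34,34,0,1),(35,35,0,1),(36,36,0,1),(37,37,0,1),(45,37,1,-2),(38,38,0,1),(39,39,0,1),(40,40,0,1),(48,40,1,-1),(41,41,0,1),(42,42,0,1),(49,42,1,-2),(43,43,0,1),(50,43,1,-2),(44,44,0,1),(45,45,0,1),(46,46,0,1),(47,47,0,1),(48,48,0,1),(49,49,0,1),(50,50,0,1),(51,51,0,1)],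
    [(0,0,0,1),(42,0,1,0),(1,1,0,1),(42,1,1,-1),(2,2,0,1),(42,2,1,1),(3,3,0,1),(42,3,1,-1),(4,4,0,1),(12,4,1,1),(26,4,2,1),(5,5,0,1),(6,6,0,1),(14,6,1,-1),(28,6,2,-1),(7,7,0,1),(16,7,1,-1),(8,8,0,1),(9,9,0,1),(18,9,1,1),(35,9,2,1),(10,10,0,1),(11,11,0,1),(23,11,1,-1),(12,12,0,1),(26,12,1,2),(13,13,0,1),(42,13,2,-1),(0,13,1,1),(1,13,1,2),(2,13,1,2),(3,13,1,2),(14,14,0,1),(28,14,1,2),(15,15,0,1),(31,15,1,1),(16,16,0,1),(17,17,0,1),(33,17,1,-1),(18,18,0,1),(35,18,1,2),(19,19,0,1),(20,20,0,1),(37,20,1,-1),(46,20,2,1),(21,21,0,1),(22,22,0,1),(38,22,1,1),(23,23,0,1),(24,24,0,1),(40,24,1,-1),(25,25,0,1),(26,26,0,1),(27,27,0,1),(41,27,1,-1),(49,27,2,-1),(28,28,0,1),(29,29,0,1),(43,29,1,-1),(51,29,2,1),(30,30,0,1),(31,31,0,1),(32,32,0,1),(44,32,1,1),(33,33,0,1),(34,34,0,1),(35,35,0,1),(36,36,0,1),(37,37,0,1),(46,37,1,-2),(38,38,0,1),(39,39,0,1),(48,39,1,1),(40,40,0,1),(41,41,0,1),(49,41,1,2),(42,42,0,1),(43,43,0,1),(51,43,1,-2),(44,44,0,1),(45,45,0,1),(46,46,0,1),(47,47,0,1),(48,48,0,1),(49,49,0,1),(50,50,0,1),(51,51,0,1)],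
    [(0,0,0,1),(43,0,1,0),(1,1,0,1),(43,1,1,1),(2,2,0,1),(43,2,1,-1),(3,3,0,1),(43,3,1,0),(4,4,0,1),(13,4,1,-1),(29,4,2,-1),(5,5,0,1),(14,5,1,-1),(30,5,2,1),(6,6,0,1),(7,7,0,1),(17,7,1,1),(8,8,0,1),(18,8,1,1),(36,8,2,1),(9,9,0,1),(10,10,0,1),(11,11,0,1),(24,11,1,1),(12,12,0,1),(43,12,2,-1),(0,12,1,1),(1,12,1,2),(2,12,1,4),(3,12,1,2),(13,13,0,1),(29,13,1,2),(14,14,0,1),(30,14,1,-2),(15,15,0,1),(32,15,1,1),(16,16,0,1),(33,16,1,-1),(17,17,0,1),(18,18,0,1),(36,18,1,2),(19,19,0,1),(37,19,1,-1),(47,19,2,1),(20,20,0,1),(21,21,0,1),(22,22,0,1),(39,22,1,1),(23,23,0,1),(40,23,1,-1),(24,24,0,1),(25,25,0,1),(41,25,1,1),(50,25,2,1),(26,26,0,1),(42,26,1,-1),(51,26,2,-1),(27,27,0,1),(28,28,0,1),(29,29,0,1),(30,30,0,1),(31,31,0,1),(44,31,1,-1),(32,32,0,1),(33,33,0,1),(34,34,0,1),(35,35,0,1),(36,36,0,1),(37,37,0,1),(47,37,1,-2),(38,38,0,1),(48,38,1,-1),(39,39,0,1),(40,40,0,1),(41,41,0,1),(50,41,1,2),(42,42,0,1),(51,42,1,2),(43,43,0,1),(44,44,0,1),(45,45,0,1),(46,46,0,1),(47,47,0,1),(48,48,0,1),(49,49,0,1),(50,50,0,1),(51,51,0,1)],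
    [(0,0,0,1),(44,0,1,1),(1,1,0,1),(44,1,1,-1),(2,2,0,1),(44,2,1,0),(3,3,0,1),(44,3,1,0),(4,4,0,1),(15,4,1,1),(34,4,2,1),(5,5,0,1),(16,5,1,1),(35,5,2,-1),(6,6,0,1),(17,6,1,1),(36,6,2,1),(7,7,0,1),(18,7,1,1),(8,8,0,1),(9,9,0,1),(10,10,0,1),(11,11,0,1),(44,11,2,-1),(0,11,1,1),(1,11,1,3),(2,11,1,4),(3,11,1,2),(12,12,0,1),(31,12,1,1),(13,13,0,1),(32,13,1,-1),(14,14,0,1),(33,14,1,1),(15,15,0,1),(34,15,1,2),(16,16,0,1),(35,16,1,-2),(17,17,0,1),(36,17,1,2),(18,18,0,1),(19,19,0,1),(38,19,1,-1),(49,19,2,1),(20,20,0,1),(39,20,1,1),(50,20,2,-1),(21,21,0,1),(40,21,1,-1),(51,21,2,1),(22,22,0,1),(41,22,1,-1),(23,23,0,1),(42,23,1,1),(24,24,0,1),(43,24,1,-1),(25,25,0,1),(26,26,0,1),(27,27,0,1),(28,28,0,1),(29,29,0,1),(30,30,0,1),(31,31,0,1),(32,32,0,1),(33,33,0,1),(34,34,0,1),(35,35,0,1),(36,36,0,1),(37,37,0,1),(48,37,1,-1),(38,38,0,1),(49,38,1,-2),(39,39,0,1),(50,39,1,-2),(40,40,0,1),(51,40,1,-2),(41,41,0,1),(42,42,0,1),(43,43,0,1),(44,44,0,1),(45,45,0,1),(46,46,0,1),(47,47,0,1),(48,48,0,1),(49,49,0,1),(50,50,0,1),(51,51,0,1)],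
    [(0,0,0,1),(45,0,1,-2),(1,1,0,1),(45,1,1,0),(2,2,0,1),(45,2,1,0),(3,3,0,1),(45,3,1,1),(4,4,0,1),(5,5,0,1),(19,5,1,1),(6,6,0,1),(20,6,1,1),(7,7,0,1),(22,7,1,1),(8,8,0,1),(25,8,1,-1),(9,9,0,1),(27,9,1,1),(10,10,0,1),(45,10,2,-1),(0,10,1,1),(1,10,1,1),(2,10,1,1),(3,10,1,0),(11,11,0,1),(12,12,0,1),(13,13,0,1),(14,14,0,1),(37,14,1,1),(15,15,0,1),(16,16,0,1),(38,16,1,-1),(17,17,0,1),(39,17,1,1),(18,18,0,1),(41,18,1,-1),(19,19,0,1),(20,20,0,1),(21,21,0,1),(22,22,0,1),(23,23,0,1),(24,24,0,1),(25,25,0,1),(26,26,0,1),(27,27,0,1),(28,28,0,1),(46,28,1,-1),(29,29,0,1),(30,30,0,1),(47,30,1,1),(31,31,0,1),(32,32,0,1),(33,33,0,1),(48,33,1,-1),(34,34,0,1),(35,35,0,1),(49,35,1,-1),(36,36,0,1),(50,36,1,-1),(37,37,0,1),(38,38,0,1),(39,39,0,1),(40,40,0,1),(41,41,0,1),(42,42,0,1),(43,43,0,1),(44,44,0,1),(45,45,0,1),(46,46,0,1),(47,47,0,1),(48,48,0,1),(49,49,0,1),(50,50,0,1),(51,51,0,1)]]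

noncomputable def f4IsoXs7 : List (List (PolyMat.Term)) := [
    [(0,0,0,1),(46,0,1,-2),(1,1,0,1),(46,1,1,0),(2,2,0,1),(46,2,1,1),(3,3,0,1),(46,3,1,-1),(4,4,0,1),(19,4,1,1),(5,5,0,1),(6,6,0,1),(21,6,1,-1),(7,7,0,1),(23,7,1,-1),(8,8,0,1),(26,8,1,1),(9,9,0,1),(46,9,2,-1),(0,9,1,1),(1,9,1,1),(2,9,1,1),(3,9,1,1),(10,10,0,1),(28,10,1,1),(11,11,0,1),(12,12,0,1),(13,13,0,1),(37,13,1,1),(14,14,0,1),(15,15,0,1),(38,15,1,-1),(16,16,0,1),(17,17,0,1),(40,17,1,1),(18,18,0,1),(42,18,1,-1),(19,19,0,1),(20,20,0,1),(21,21,0,1),(22,22,0,1),(23,23,0,1),(24,24,0,1),(25,25,0,1),(26,26,0,1),(27,27,0,1),(45,27,1,-1),(28,28,0,1),(29,29,0,1),(47,29,1,-1),(30,30,0,1),(31,31,0,1),(32,32,0,1),(48,32,1,1),(33,33,0,1),(34,34,0,1),(49,34,1,1),(35,35,0,1),(36,36,0,1),(51,36,1,-1),(37,37,0,1),(38,38,0,1),(39,39,0,1),(40,40,0,1),(41,41,0,1),(42,42,0,1),(43,43,0,1),(44,44,0,1),(45,45,0,1),(46,46,0,1),(47,47,0,1),(48,48,0,1),(49,49,0,1),(50,50,0,1),(51,51,0,1)],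
    [(0,0,0,1),(47,0,1,-2),(1,1,0,1),(47,1,1,2),(2,2,0,1),(47,2,1,-1),(3,3,0,1),(47,3,1,0),(4,4,0,1),(20,4,1,-1),(5,5,0,1),(21,5,1,-1),(6,6,0,1),(7,7,0,1),(24,7,1,1),(8,8,0,1),(47,8,2,-1),(0,8,1,1),(1,8,1,1),(2,8,1,2),(3,8,1,1),(9,9,0,1),(29,9,1,1),(10,10,0,1),(30,10,1,-1),(11,11,0,1),(12,12,0,1),(37,12,1,1),(13,13,0,1),(14,14,0,1),(15,15,0,1),(39,15,1,-1),(16,16,0,1),(40,16,1,1),(17,17,0,1),(18,18,0,1),(43,18,1,-1),(19,19,0,1),(20,20,0,1),(21,21,0,1),(22,22,0,1),(23,23,0,1),(24,24,0,1),(25,25,0,1),(45,25,1,1),(26,26,0,1),(46,26,1,-1),(27,27,0,1),(28,28,0,1),(29,29,0,1),(30,30,0,1),(31,31,0,1),(48,31,1,-1),(32,32,0,1),(33,33,0,1),(34,34,0,1),(50,34,1,1),(35,35,0,1),(51,35,1,1),(36,36,0,1),(37,37,0,1),(38,38,0,1),(39,39,0,1),(40,40,0,1),(41,41,0,1),(42,42,0,1),(43,43,0,1),(44,44,0,1),(45,45,0,1),(46,46,0,1),(47,47,0,1),(48,48,0,1),(49,49,0,1),(50,50,0,1),(51,51,0,1)],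
    [(0,0,0,1),(48,0,1,-1),(1,1,0,1),(48,1,1,0),(2,2,0,1),(48,2,1,0),(3,3,0,1),(48,3,1,0),(4,4,0,1),(22,4,1,1),(45,4,2,-1),(5,5,0,1),(23,5,1,1),(46,5,2,1),(6,6,0,1),(24,6,1,1),(47,6,2,-1),(7,7,0,1),(48,7,2,-1),(0,7,1,2),(1,7,1,3),(2,7,1,4),(3,7,1,2),(8,8,0,1),(31,8,1,1),(49,8,2,-1),(9,9,0,1),(32,9,1,-1),(50,9,2,1),(10,10,0,1),(33,10,1,1),(51,10,2,-1),(11,11,0,1),(37,11,1,1),(12,12,0,1),(38,12,1,1),(13,13,0,1),(39,13,1,-1),(14,14,0,1),(40,14,1,1),(15,15,0,1),(41,15,1,-1),(16,16,0,1),(42,16,1,1),(17,17,0,1),(43,17,1,-1),(18,18,0,1),(44,18,1,-1),(19,19,0,1),(20,20,0,1),(21,21,0,1),(22,22,0,1),(45,22,1,-2),(23,23,0,1),(46,23,1,2),(24,24,0,1),(47,24,1,-2),(25,25,0,1),(26,26,0,1),(27,27,0,1),(28,28,0,1),(29,29,0,1),(30,30,0,1),(31,31,0,1),(49,31,1,-2),(32,32,0,1),(50,32,1,-2),(33,33,0,1),(51,33,1,-2),(34,34,0,1),(35,35,0,1),(36,36,0,1),(37,37,0,1),(38,38,0,1),(39,39,0,1),(40,40,0,1),(41,41,0,1),(42,42,0,1),(43,43,0,1),(44,44,0,1),(45,45,0,1),(46,46,0,1),(47,47,0,1),(48,48,0,1),(49,49,0,1),(50,50,0,1),(51,51,0,1)],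
    [(0,0,0,1),(49,0,1,0),(1,1,0,1),(49,1,1,-2),(2,2,0,1),(49,2,1,1),(3,3,0,1),(49,3,1,0),(4,4,0,1),(25,4,1,1),(5,5,0,1),(26,5,1,1),(6,6,0,1),(49,6,2,-1),(0,6,1,1),(1,6,1,2),(2,6,1,2),(3,6,1,1),(7,7,0,1),(31,7,1,1),(8,8,0,1),(9,9,0,1),(34,9,1,-1),(10,10,0,1),(35,10,1,1),(11,11,0,1),(38,11,1,1),(12,12,0,1),(13,13,0,1),(41,13,1,-1),(14,14,0,1),(42,14,1,1),(15,15,0,1),(16,16,0,1),(17,17,0,1),(44,17,1,-1),(18,18,0,1),(19,19,0,1),(20,20,0,1),(45,20,1,-1),(21,21,0,1),(46,21,1,1),(22,22,0,1),(23,23,0,1),(24,24,0,1),(48,24,1,-1),(25,25,0,1),(26,26,0,1),(27,27,0,1),(28,28,0,1),(29,29,0,1),(50,29,1,-1),(30,30,0,1),(51,30,1,-1),(31,31,0,1),(32,32,0,1),(33,33,0,1),(34,34,0,1),(35,35,0,1),(36,36,0,1),(37,37,0,1),(38,38,0,1),(39,39,0,1),(40,40,0,1),(41,41,0,1),(42,42,0,1),(43,43,0,1),(44,44,0,1),(45,45,0,1),(46,46,0,1),(47,47,0,1),(48,48,0,1),(49,49,0,1),(50,50,0,1),(51,51,0,1)],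
    [(0,0,0,1),(50,0,1,0),(1,1,0,1),(50,1,1,0),(2,2,0,1),(50,2,1,-1),(3,3,0,1),(50,3,1,1),(4,4,0,1),(27,4,1,1),(5,5,0,1),(50,5,2,-1),(0,5,1,1),(1,5,1,2),(2,5,1,3),(3,5,1,1),(6,6,0,1),(29,6,1,1),(7,7,0,1),(32,7,1,1),(8,8,0,1),(34,8,1,-1),(9,9,0,1),(10,10,0,1),(36,10,1,1),(11,11,0,1),(39,11,1,1),(12,12,0,1),(41,12,1,-1),(13,13,0,1),(14,14,0,1),(43,14,1,1),(15,15,0,1),(16,16,0,1),(44,16,1,-1),(17,17,0,1),(18,18,0,1),(19,19,0,1),(45,19,1,-1),(20,20,0,1),(21,21,0,1),(47,21,1,1),(22,22,0,1),(23,23,0,1),(48,23,1,-1),(24,24,0,1),(25,25,0,1),(26,26,0,1),(49,26,1,-1),(27,27,0,1),(28,28,0,1),(51,28,1,-1),(29,29,0,1),(30,30,0,1),(31,31,0,1),(32,32,0,1),(33,33,0,1),(34,34,0,1),(35,35,0,1),(36,36,0,1),(37,37,0,1),(38,38,0,1),(39,39,0,1),(40,40,0,1),(41,41,0,1),(42,42,0,1),(43,43,0,1),(44,44,0,1),(45,45,0,1),(46,46,0,1),(47,47,0,1),(48,48,0,1),(49,49,0,1),(50,50,0,1),(51,51,0,1)],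
    [(0,0,0,1),(51,0,1,0),(1,1,0,1),(51,1,1,0),(2,2,0,1),(51,2,1,0),(3,3,0,1),(51,3,1,-1),(4,4,0,1),(51,4,2,-1),(0,4,1,1),(1,4,1,2),(2,4,1,3),(3,4,1,2),(5,5,0,1),(28,5,1,1),(6,6,0,1),(30,6,1,1),(7,7,0,1),(33,7,1,1),(8,8,0,1),(35,8,1,-1),(9,9,0,1),(36,9,1,1),(10,10,0,1),(11,11,0,1),(40,11,1,1),(12,12,0,1),(42,12,1,-1),(13,13,0,1),(43,13,1,1),(14,14,0,1),(15,15,0,1),(44,15,1,-1),(16,16,0,1),(17,17,0,1),(18,18,0,1),(19,19,0,1),(46,19,1,-1),(20,20,0,1),(47,20,1,1),(21,21,0,1),(22,22,0,1),(48,22,1,-1),(23,23,0,1),(24,24,0,1),(25,25,0,1),(49,25,1,-1),(26,26,0,1),(27,27,0,1),(50,27,1,-1),(28,28,0,1),(29,29,0,1),(30,30,0,1),(31,31,0,1),(32,32,0,1),(33,33,0,1),(34,34,0,1),(35,35,0,1),(36,36,0,1),(37,37,0,1),(38,38,0,1),(39,39,0,1),(40,40,0,1),(41,41,0,1),(42,42,0,1),(43,43,0,1),(44,44,0,1),(45,45,0,1),(46,46,0,1),(47,47,0,1),(48,48,0,1),(49,49,0,1),(50,50,0,1),(51,51,0,1)]]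

noncomputable def f4IsoVs0 : List (List (PolyMat.Term)) := [
    [(0,0,0,1),(1,1,0,1),(2,2,0,1),(3,3,0,1),(4,4,0,1),(5,5,0,1),(6,6,0,1),(7,7,0,1),(8,8,0,1),(9,9,0,1),(10,10,0,1),(11,11,0,1),(12,12,0,1),(13,13,0,1),(14,14,0,1),(15,15,0,1),(16,16,0,1),(2,16,1,1),(17,17,0,1),(18,18,0,1),(19,19,0,1),(20,20,0,1),(3,20,1,1),(21,21,0,1),(22,22,0,1),(4,22,1,-1),(23,23,0,1),(5,23,1,1),(24,24,0,1),(7,24,1,-1),(25,25,0,1),(11,25,1,-1)],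
    [(0,0,0,1),(1,1,0,1),(2,2,0,1),(3,3,0,1),(4,4,0,1),(5,5,0,1),(6,6,0,1),(7,7,0,1),(8,8,0,1),(9,9,0,1),(10,10,0,1),(11,11,0,1),(12,12,0,1),(13,13,0,1),(14,14,0,1),(15,15,0,1),(2,15,1,1),(16,16,0,1),(17,17,0,1),(18,18,0,1),(19,19,0,1),(3,19,1,1),(20,20,0,1),(21,21,0,1),(4,21,1,-1),(22,22,0,1),(23,23,0,1),(6,23,1,1),(24,24,0,1),(8,24,1,-1),(25,25,0,1),(12,25,1,-1)],
    [(0,0,0,1),(1,1,0,1),(2,2,0,1),(3,3,0,1),(4,4,0,1),(5,5,0,1),(6,6,0,1),(7,7,0,1),(8,8,0,1),(9,9,0,1),(10,10,0,1),(11,11,0,1),(12,12,0,1),(13,13,0,1),(14,14,0,1),(2,14,1,1),(15,15,0,1),(16,16,0,1),(17,17,0,1),(18,18,0,1),(3,18,1,1),(19,19,0,1),(20,20,0,1),(21,21,0,1),(5,21,1,-1),(22,22,0,1),(6,22,1,1),(23,23,0,1),(24,24,0,1),(9,24,1,-1),(25,25,0,1),(13,25,1,-1)],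
    [(0,0,0,1),(2,0,1,1),(1,1,0,1),(2,1,1,0),(2,2,0,1),(3,3,0,1),(4,4,0,1),(5,5,0,1),(6,6,0,1),(7,7,0,1),(8,8,0,1),(9,9,0,1),(10,10,0,1),(11,11,0,1),(12,12,0,1),(13,13,0,1),(14,14,0,1),(15,15,0,1),(16,16,0,1),(17,17,0,1),(3,17,1,1),(18,18,0,1),(4,18,1,1),(19,19,0,1),(5,19,1,-1),(20,20,0,1),(6,20,1,1),(21,21,0,1),(7,21,1,-1),(22,22,0,1),(8,22,1,1),(23,23,0,1),(9,23,1,-1),(24,24,0,1),(10,24,1,-1),(25,25,0,1),(2,25,2,-1),(0,25,1,-2),(1,25,1,-3)],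
    [(0,0,0,1),(1,1,0,1),(2,2,0,1),(3,3,0,1),(4,4,0,1),(5,5,0,1),(6,6,0,1),(7,7,0,1),(8,8,0,1),(9,9,0,1),(10,10,0,1),(11,11,0,1),(12,12,0,1),(13,13,0,1),(2,13,1,1),(14,14,0,1),(15,15,0,1),(16,16,0,1),(17,17,0,1),(4,17,1,1),(18,18,0,1),(19,19,0,1),(7,19,1,-1),(20,20,0,1),(8,20,1,1),(21,21,0,1),(22,22,0,1),(23,23,0,1),(10,23,1,-1),(24,24,0,1),(25,25,0,1),(14,25,1,-1)],
    [(0,0,0,1),(1,1,0,1),(2,2,0,1),(3,3,0,1),(4,4,0,1),(5,5,0,1),(6,6,0,1),(7,7,0,1),(8,8,0,1),(9,9,0,1),(10,10,0,1),(11,11,0,1),(12,12,0,1),(2,12,1,-1),(13,13,0,1),(14,14,0,1),(15,15,0,1),(16,16,0,1),(17,17,0,1),(5,17,1,1),(18,18,0,1),(7,18,1,-1),(19,19,0,1),(20,20,0,1),(9,20,1,1),(21,21,0,1),(22,22,0,1),(10,22,1,-1),(23,23,0,1),(24,24,0,1),(25,25,0,1),(15,25,1,1)]]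

noncomputable def f4IsoVs1 : List (List (PolyMat.Term)) := [
    [(0,0,0,1),(1,1,0,1),(2,2,0,1),(3,3,0,1),(4,4,0,1),(5,5,0,1),(6,6,0,1),(7,7,0,1),(8,8,0,1),(9,9,0,1),(10,10,0,1),(11,11,0,1),(2,11,1,1),(12,12,0,1),(13,13,0,1),(14,14,0,1),(15,15,0,1),(16,16,0,1),(17,17,0,1),(6,17,1,1),(18,18,0,1),(8,18,1,-1),(19,19,0,1),(9,19,1,1),(20,20,0,1),(21,21,0,1),(10,21,1,-1),(22,22,0,1),(23,23,0,1),(24,24,0,1),(25,25,0,1),(16,25,1,-1)],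
    [(0,0,0,1),(3,0,1,-1),(1,1,0,1),(3,1,1,1),(2,2,0,1),(3,3,0,1),(4,4,0,1),(5,5,0,1),(6,6,0,1),(7,7,0,1),(8,8,0,1),(9,9,0,1),(10,10,0,1),(2,10,1,1),(11,11,0,1),(12,12,0,1),(13,13,0,1),(14,14,0,1),(4,14,1,1),(15,15,0,1),(5,15,1,-1),(16,16,0,1),(6,16,1,1),(17,17,0,1),(18,18,0,1),(19,19,0,1),(20,20,0,1),(21,21,0,1),(11,21,1,-1),(22,22,0,1),(12,22,1,1),(23,23,0,1),(13,23,1,-1),(24,24,0,1),(3,24,2,-1),(0,24,1,-1),(1,24,1,-3),(25,25,0,1),(17,25,1,-1)],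
    [(0,0,0,1),(4,0,1,0),(1,1,0,1),(4,1,1,-1),(2,2,0,1),(3,3,0,1),(4,4,0,1),(5,5,0,1),(6,6,0,1),(7,7,0,1),(8,8,0,1),(9,9,0,1),(2,9,1,1),(10,10,0,1),(11,11,0,1),(12,12,0,1),(13,13,0,1),(3,13,1,1),(14,14,0,1),(15,15,0,1),(7,15,1,1),(16,16,0,1),(8,16,1,-1),(17,17,0,1),(18,18,0,1),(19,19,0,1),(11,19,1,1),(20,20,0,1),(12,20,1,-1),(21,21,0,1),(22,22,0,1),(23,23,0,1),(4,23,2,-1),(0,23,1,-1),(1,23,1,-2),(24,24,0,1),(14,24,1,-1),(25,25,0,1),(18,25,1,-1)],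
    [(0,0,0,1),(5,0,1,0),(1,1,0,1),(5,1,1,1),(2,2,0,1),(3,3,0,1),(4,4,0,1),(5,5,0,1),(6,6,0,1),(7,7,0,1),(8,8,0,1),(2,8,1,-1),(9,9,0,1),(10,10,0,1),(11,11,0,1),(12,12,0,1),(3,12,1,-1),(13,13,0,1),(14,14,0,1),(7,14,1,1),(15,15,0,1),(16,16,0,1),(9,16,1,-1),(17,17,0,1),(18,18,0,1),(11,18,1,1),(19,19,0,1),(20,20,0,1),(13,20,1,-1),(21,21,0,1),(22,22,0,1),(5,22,2,-1),(0,22,1,-1),(1,22,1,-2),(23,23,0,1),(24,24,0,1),(15,24,1,1),(25,25,0,1),(19,25,1,1)],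
    [(0,0,0,1),(6,0,1,0),(1,1,0,1),(6,1,1,1),(2,2,0,1),(3,3,0,1),(4,4,0,1),(5,5,0,1),(6,6,0,1),(7,7,0,1),(2,7,1,1),(8,8,0,1),(9,9,0,1),(10,10,0,1),(11,11,0,1),(3,11,1,1),(12,12,0,1),(13,13,0,1),(14,14,0,1),(8,14,1,1),(15,15,0,1),(9,15,1,-1),(16,16,0,1),(17,17,0,1),(18,18,0,1),(12,18,1,1),(19,19,0,1),(13,19,1,-1),(20,20,0,1),(21,21,0,1),(6,21,2,-1),(0,21,1,-1),(1,21,1,-2),(22,22,0,1),(23,23,0,1),(24,24,0,1),(16,24,1,-1),(25,25,0,1),(20,25,1,-1)],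
    [(0,0,0,1),(7,0,1,1),(1,1,0,1),(7,1,1,-1),(2,2,0,1),(3,3,0,1),(4,4,0,1),(5,5,0,1),(6,6,0,1),(2,6,1,-1),(7,7,0,1),(8,8,0,1),(9,9,0,1),(10,10,0,1),(11,11,0,1),(12,12,0,1),(4,12,1,1),(13,13,0,1),(5,13,1,1),(14,14,0,1),(15,15,0,1),(16,16,0,1),(10,16,1,1),(17,17,0,1),(11,17,1,-1),(18,18,0,1),(19,19,0,1),(20,20,0,1),(7,20,2,-1),(0,20,1,-1),(1,20,1,-1),(21,21,0,1),(22,22,0,1),(14,22,1,-1),(23,23,0,1),(15,23,1,-1),(24,24,0,1),(25,25,0,1),(21,25,1,1)]]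

noncomputable def f4IsoVs2 : List (List (PolyMat.Term)) := [
    [(0,0,0,1),(8,0,1,1),(1,1,0,1),(8,1,1,-1),(2,2,0,1),(3,3,0,1),(4,4,0,1),(5,5,0,1),(2,5,1,1),(6,6,0,1),(7,7,0,1),(8,8,0,1),(9,9,0,1),(10,10,0,1),(11,11,0,1),(4,11,1,-1),(12,12,0,1),(13,13,0,1),(6,13,1,1),(14,14,0,1),(15,15,0,1),(10,15,1,1),(16,16,0,1),(17,17,0,1),(12,17,1,-1),(18,18,0,1),(19,19,0,1),(8,19,2,-1),(0,19,1,-1),(1,19,1,-1),(20,20,0,1),(21,21,0,1),(14,21,1,-1),(22,22,0,1),(23,23,0,1),(16,23,1,1),(24,24,0,1),(25,25,0,1),(22,25,1,-1)],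
    [(0,0,0,1),(9,0,1,1),(1,1,0,1),(9,1,1,1),(2,2,0,1),(3,3,0,1),(4,4,0,1),(2,4,1,-1),(5,5,0,1),(6,6,0,1),(7,7,0,1),(8,8,0,1),(9,9,0,1),(10,10,0,1),(11,11,0,1),(5,11,1,-1),(12,12,0,1),(6,12,1,-1),(13,13,0,1),(14,14,0,1),(10,14,1,1),(15,15,0,1),(16,16,0,1),(17,17,0,1),(13,17,1,-1),(18,18,0,1),(9,18,2,-1),(0,18,1,-1),(1,18,1,-1),(19,19,0,1),(20,20,0,1),(21,21,0,1),(15,21,1,1),(22,22,0,1),(16,22,1,1),(23,23,0,1),(24,24,0,1),(25,25,0,1),(23,25,1,1)],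
    [(0,0,0,1),(10,0,1,2),(1,1,0,1),(10,1,1,-1),(2,2,0,1),(3,3,0,1),(2,3,1,-1),(4,4,0,1),(5,5,0,1),(6,6,0,1),(7,7,0,1),(8,8,0,1),(9,9,0,1),(10,10,0,1),(11,11,0,1),(7,11,1,1),(12,12,0,1),(8,12,1,1),(13,13,0,1),(9,13,1,1),(14,14,0,1),(15,15,0,1),(16,16,0,1),(17,17,0,1),(10,17,2,-1),(0,17,1,-1),(1,17,1,0),(18,18,0,1),(14,18,1,-1),(19,19,0,1),(15,19,1,-1),(20,20,0,1),(16,20,1,-1),(21,21,0,1),(22,22,0,1),(23,23,0,1),(24,24,0,1),(25,25,0,1),(24,25,1,1)],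
    [(0,0,0,1),(1,1,0,1),(2,2,0,1),(3,3,0,1),(4,4,0,1),(5,5,0,1),(6,6,0,1),(7,7,0,1),(8,8,0,1),(9,9,0,1),(3,9,1,-1),(10,10,0,1),(4,10,1,-1),(11,11,0,1),(12,12,0,1),(13,13,0,1),(14,14,0,1),(15,15,0,1),(11,15,1,1),(16,16,0,1),(12,16,1,-1),(17,17,0,1),(18,18,0,1),(19,19,0,1),(20,20,0,1),(21,21,0,1),(22,22,0,1),(23,23,0,1),(17,23,1,1),(24,24,0,1),(18,24,1,1),(25,25,0,1)],
    [(0,0,0,1),(1,1,0,1),(2,2,0,1),(3,3,0,1),(4,4,0,1),(5,5,0,1),(6,6,0,1),(7,7,0,1),(8,8,0,1),(3,8,1,1),(9,9,0,1),(10,10,0,1),(5,10,1,-1),(11,11,0,1),(12,12,0,1),(13,13,0,1),(14,14,0,1),(11,14,1,1),(15,15,0,1),(16,16,0,1),(13,16,1,-1),(17,17,0,1),(18,18,0,1),(19,19,0,1),(20,20,0,1),(21,21,0,1),(22,22,0,1),(17,22,1,1),(23,23,0,1),(24,24,0,1),(19,24,1,-1),(25,25,0,1)],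
    [(0,0,0,1),(1,1,0,1),(2,2,0,1),(3,3,0,1),(4,4,0,1),(5,5,0,1),(6,6,0,1),(7,7,0,1),(3,7,1,-1),(8,8,0,1),(9,9,0,1),(10,10,0,1),(6,10,1,-1),(11,11,0,1),(12,12,0,1),(13,13,0,1),(14,14,0,1),(12,14,1,1),(15,15,0,1),(13,15,1,-1),(16,16,0,1),(17,17,0,1),(18,18,0,1),(19,19,0,1),(20,20,0,1),(21,21,0,1),(17,21,1,1),(22,22,0,1),(23,23,0,1),(24,24,0,1),(20,24,1,1),(25,25,0,1)]]

noncomputable def f4IsoVs3 : List (List (PolyMat.Term)) := [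
    [(0,0,0,1),(11,0,1,-1),(1,1,0,1),(11,1,1,0),(2,2,0,1),(3,3,0,1),(4,4,0,1),(5,5,0,1),(6,6,0,1),(3,6,1,-1),(7,7,0,1),(8,8,0,1),(4,8,1,1),(9,9,0,1),(5,9,1,1),(10,10,0,1),(7,10,1,-1),(11,11,0,1),(12,12,0,1),(13,13,0,1),(14,14,0,1),(15,15,0,1),(16,16,0,1),(11,16,2,-1),(0,16,1,0),(1,16,1,-1),(17,17,0,1),(18,18,0,1),(19,19,0,1),(20,20,0,1),(17,20,1,1),(21,21,0,1),(22,22,0,1),(18,22,1,-1),(23,23,0,1),(19,23,1,-1),(24,24,0,1),(21,24,1,1),(25,25,0,1)],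
    [(0,0,0,1),(12,0,1,-1),(1,1,0,1),(12,1,1,0),(2,2,0,1),(3,3,0,1),(4,4,0,1),(5,5,0,1),(3,5,1,1),(6,6,0,1),(7,7,0,1),(4,7,1,-1),(8,8,0,1),(9,9,0,1),(6,9,1,1),(10,10,0,1),(8,10,1,-1),(11,11,0,1),(12,12,0,1),(13,13,0,1),(14,14,0,1),(15,15,0,1),(12,15,2,-1),(0,15,1,0),(1,15,1,-1),(16,16,0,1),(17,17,0,1),(18,18,0,1),(19,19,0,1),(17,19,1,1),(20,20,0,1),(21,21,0,1),(18,21,1,-1),(22,22,0,1),(23,23,0,1),(20,23,1,1),(24,24,0,1),(22,24,1,-1),(25,25,0,1)],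
    [(0,0,0,1),(13,0,1,-1),(1,1,0,1),(13,1,1,2),(2,2,0,1),(3,3,0,1),(4,4,0,1),(3,4,1,-1),(5,5,0,1),(6,6,0,1),(7,7,0,1),(5,7,1,-1),(8,8,0,1),(6,8,1,-1),(9,9,0,1),(10,10,0,1),(9,10,1,-1),(11,11,0,1),(12,12,0,1),(13,13,0,1),(14,14,0,1),(13,14,2,-1),(0,14,1,0),(1,14,1,-1),(15,15,0,1),(16,16,0,1),(17,17,0,1),(18,18,0,1),(17,18,1,1),(19,19,0,1),(20,20,0,1),(21,21,0,1),(19,21,1,1),(22,22,0,1),(20,22,1,1),(23,23,0,1),(24,24,0,1),(23,24,1,1),(25,25,0,1)],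
    [(0,0,0,1),(1,1,0,1),(2,2,0,1),(3,3,0,1),(4,4,0,1),(5,5,0,1),(6,6,0,1),(4,6,1,1),(7,7,0,1),(8,8,0,1),(9,9,0,1),(7,9,1,-1),(10,10,0,1),(11,11,0,1),(12,12,0,1),(13,13,0,1),(11,13,1,-1),(14,14,0,1),(15,15,0,1),(16,16,0,1),(14,16,1,1),(17,17,0,1),(18,18,0,1),(19,19,0,1),(20,20,0,1),(18,20,1,1),(21,21,0,1),(22,22,0,1),(23,23,0,1),(21,23,1,-1),(24,24,0,1),(25,25,0,1)],
    [(0,0,0,1),(1,1,0,1),(2,2,0,1),(3,3,0,1),(4,4,0,1),(5,5,0,1),(4,5,1,-1),(6,6,0,1),(7,7,0,1),(8,8,0,1),(9,9,0,1),(8,9,1,-1),(10,10,0,1),(11,11,0,1),(12,12,0,1),(13,13,0,1),(12,13,1,-1),(14,14,0,1),(15,15,0,1),(14,15,1,1),(16,16,0,1),(17,17,0,1),(18,18,0,1),(19,19,0,1),(18,19,1,1),(20,20,0,1),(21,21,0,1),(22,22,0,1),(23,23,0,1),(22,23,1,1),(24,24,0,1),(25,25,0,1)],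
    [(0,0,0,1),(1,1,0,1),(2,2,0,1),(3,3,0,1),(4,4,0,1),(5,5,0,1),(6,6,0,1),(5,6,1,-1),(7,7,0,1),(8,8,0,1),(7,8,1,-1),(9,9,0,1),(10,10,0,1),(11,11,0,1),(12,12,0,1),(11,12,1,-1),(13,13,0,1),(14,14,0,1),(15,15,0,1),(16,16,0,1),(15,16,1,1),(17,17,0,1),(18,18,0,1),(19,19,0,1),(20,20,0,1),(19,20,1,1),(21,21,0,1),(22,22,0,1),(21,22,1,1),(23,23,0,1),(24,24,0,1),(25,25,0,1)]]

noncomputable def f4IsoVs4 : List (List (PolyMat.Term)) := [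
    [(0,0,0,1),(1,1,0,1),(2,2,0,1),(3,3,0,1),(4,4,0,1),(5,5,0,1),(6,5,1,-1),(6,6,0,1),(7,7,0,1),(8,7,1,-1),(8,8,0,1),(9,9,0,1),(10,10,0,1),(11,11,0,1),(12,11,1,-1),(12,12,0,1),(13,13,0,1),(14,14,0,1),(15,15,0,1),(16,15,1,1),(16,16,0,1),(17,17,0,1),(18,18,0,1),(19,19,0,1),(20,19,1,1),(20,20,0,1),(21,21,0,1),(22,21,1,1),(22,22,0,1),(23,23,0,1),(24,24,0,1),(25,25,0,1)],
    [(0,0,0,1),(1,1,0,1),(2,2,0,1),(3,3,0,1),(4,4,0,1),(5,4,1,-1),(5,5,0,1),(6,6,0,1),(7,7,0,1),(8,8,0,1),(9,8,1,-1),(9,9,0,1),(10,10,0,1),(11,11,0,1),(12,12,0,1),(13,12,1,-1),(13,13,0,1),(14,14,0,1),(15,14,1,1),(15,15,0,1),(16,16,0,1),(17,17,0,1),(18,18,0,1),(19,18,1,1),(19,19,0,1),(20,20,0,1),(21,21,0,1),(22,22,0,1),(23,22,1,1),(23,23,0,1),(24,24,0,1),(25,25,0,1)],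
    [(0,0,0,1),(1,1,0,1),(2,2,0,1),(3,3,0,1),(4,4,0,1),(6,4,1,1),(5,5,0,1),(6,6,0,1),(7,7,0,1),(9,7,1,-1),(8,8,0,1),(9,9,0,1),(10,10,0,1),(11,11,0,1),(13,11,1,-1),(12,12,0,1),(13,13,0,1),(14,14,0,1),(16,14,1,1),(15,15,0,1),(16,16,0,1),(17,17,0,1),(18,18,0,1),(20,18,1,1),(19,19,0,1),(20,20,0,1),(21,21,0,1),(23,21,1,-1),(22,22,0,1),(23,23,0,1),(24,24,0,1),(25,25,0,1)],
    [(0,0,0,1),(14,0,1,1),(1,1,0,1),(14,1,1,-2),(2,2,0,1),(3,3,0,1),(4,3,1,-1),(4,4,0,1),(5,5,0,1),(7,5,1,-1),(6,6,0,1),(8,6,1,-1),(7,7,0,1),(8,8,0,1),(9,9,0,1),(10,9,1,-1),(10,10,0,1),(11,11,0,1),(12,12,0,1),(13,13,0,1),(14,13,2,-1),(0,13,1,0),(1,13,1,1),(14,14,0,1),(15,15,0,1),(16,16,0,1),(17,17,0,1),(18,17,1,1),(18,18,0,1),(19,19,0,1),(21,19,1,1),(20,20,0,1),(22,20,1,1),(21,21,0,1),(22,22,0,1),(23,23,0,1),(24,23,1,1),(24,24,0,1),(25,25,0,1)],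
    [(0,0,0,1),(15,0,1,1),(1,1,0,1),(15,1,1,0),(2,2,0,1),(3,3,0,1),(5,3,1,1),(4,4,0,1),(7,4,1,-1),(5,5,0,1),(6,6,0,1),(9,6,1,1),(7,7,0,1),(8,8,0,1),(10,8,1,-1),(9,9,0,1),(10,10,0,1),(11,11,0,1),(12,12,0,1),(15,12,2,-1),(0,12,1,0),(1,12,1,1),(13,13,0,1),(14,14,0,1),(15,15,0,1),(16,16,0,1),(17,17,0,1),(19,17,1,1),(18,18,0,1),(21,18,1,-1),(19,19,0,1),(20,20,0,1),(23,20,1,1),(21,21,0,1),(22,22,0,1),(24,22,1,-1),(23,23,0,1),(24,24,0,1),(25,25,0,1)],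
    [(0,0,0,1),(16,0,1,1),(1,1,0,1),(16,1,1,0),(2,2,0,1),(3,3,0,1),(6,3,1,-1),(4,4,0,1),(8,4,1,1),(5,5,0,1),(9,5,1,1),(6,6,0,1),(7,7,0,1),(10,7,1,-1),(8,8,0,1),(9,9,0,1),(10,10,0,1),(11,11,0,1),(16,11,2,-1),(0,11,1,0),(1,11,1,1),(12,12,0,1),(13,13,0,1),(14,14,0,1),(15,15,0,1),(16,16,0,1),(17,17,0,1),(20,17,1,1),(18,18,0,1),(22,18,1,-1),(19,19,0,1),(23,19,1,-1),(20,20,0,1),(21,21,0,1),(24,21,1,1),(22,22,0,1),(23,23,0,1),(24,24,0,1),(25,25,0,1)]]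

noncomputable def f4IsoVs5 : List (List (PolyMat.Term)) := [
    [(0,0,0,1),(1,1,0,1),(2,2,0,1),(3,3,0,1),(7,3,1,-1),(4,4,0,1),(5,5,0,1),(6,6,0,1),(10,6,1,-1),(7,7,0,1),(8,8,0,1),(9,9,0,1),(10,10,0,1),(11,11,0,1),(12,12,0,1),(14,12,1,1),(13,13,0,1),(15,13,1,-1),(14,14,0,1),(15,15,0,1),(16,16,0,1),(17,17,0,1),(21,17,1,1),(18,18,0,1),(19,19,0,1),(20,20,0,1),(24,20,1,1),(21,21,0,1),(22,22,0,1),(23,23,0,1),(24,24,0,1),(25,25,0,1)],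
    [(0,0,0,1),(1,1,0,1),(2,2,0,1),(3,3,0,1),(8,3,1,1),(4,4,0,1),(5,5,0,1),(10,5,1,-1),(6,6,0,1),(7,7,0,1),(8,8,0,1),(9,9,0,1),(10,10,0,1),(11,11,0,1),(14,11,1,1),(12,12,0,1),(13,13,0,1),(16,13,1,-1),(14,14,0,1),(15,15,0,1),(16,16,0,1),(17,17,0,1),(22,17,1,1),(18,18,0,1),(19,19,0,1),(24,19,1,-1),(20,20,0,1),(21,21,0,1),(22,22,0,1),(23,23,0,1),(24,24,0,1),(25,25,0,1)],
    [(0,0,0,1),(1,1,0,1),(2,2,0,1),(3,3,0,1),(9,3,1,-1),(4,4,0,1),(10,4,1,-1),(5,5,0,1),(6,6,0,1),(7,7,0,1),(8,8,0,1),(9,9,0,1),(10,10,0,1),(11,11,0,1),(15,11,1,1),(12,12,0,1),(16,12,1,-1),(13,13,0,1),(14,14,0,1),(15,15,0,1),(16,16,0,1),(17,17,0,1),(23,17,1,1),(18,18,0,1),(24,18,1,1),(19,19,0,1),(20,20,0,1),(21,21,0,1),(22,22,0,1),(23,23,0,1),(24,24,0,1),(25,25,0,1)],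
    [(0,0,0,1),(17,0,1,-2),(1,1,0,1),(17,1,1,1),(2,2,0,1),(3,2,1,-1),(3,3,0,1),(4,4,0,1),(5,5,0,1),(6,6,0,1),(7,7,0,1),(11,7,1,1),(8,8,0,1),(12,8,1,1),(9,9,0,1),(13,9,1,1),(10,10,0,1),(17,10,2,-1),(0,10,1,1),(1,10,1,0),(11,11,0,1),(12,12,0,1),(13,13,0,1),(14,14,0,1),(18,14,1,-1),(15,15,0,1),(19,15,1,-1),(16,16,0,1),(20,16,1,-1),(17,17,0,1),(18,18,0,1),(19,19,0,1),(20,20,0,1),(21,21,0,1),(22,22,0,1),(23,23,0,1),(24,24,0,1),(25,24,1,1),(25,25,0,1)],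
    [(0,0,0,1),(18,0,1,-1),(1,1,0,1),(18,1,1,-1),(2,2,0,1),(4,2,1,-1),(3,3,0,1),(4,4,0,1),(5,5,0,1),(11,5,1,-1),(6,6,0,1),(12,6,1,-1),(7,7,0,1),(8,8,0,1),(9,9,0,1),(18,9,2,-1),(0,9,1,1),(1,9,1,1),(10,10,0,1),(14,10,1,1),(11,11,0,1),(12,12,0,1),(13,13,0,1),(17,13,1,-1),(14,14,0,1),(15,15,0,1),(21,15,1,1),(16,16,0,1),(22,16,1,1),(17,17,0,1),(18,18,0,1),(19,19,0,1),(20,20,0,1),(21,21,0,1),(22,22,0,1),(23,23,0,1),(25,23,1,1),(24,24,0,1),(25,25,0,1)],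
    [(0,0,0,1),(19,0,1,-1),(1,1,0,1),(19,1,1,1),(2,2,0,1),(5,2,1,1),(3,3,0,1),(4,4,0,1),(11,4,1,-1),(5,5,0,1),(6,6,0,1),(13,6,1,1),(7,7,0,1),(8,8,0,1),(19,8,2,-1),(0,8,1,1),(1,8,1,1),(9,9,0,1),(10,10,0,1),(15,10,1,1),(11,11,0,1),(12,12,0,1),(17,12,1,-1),(13,13,0,1),(14,14,0,1),(21,14,1,-1),(15,15,0,1),(16,16,0,1),(23,16,1,1),(17,17,0,1),(18,18,0,1),(19,19,0,1),(20,20,0,1),(21,21,0,1),(22,22,0,1),(25,22,1,-1),(23,23,0,1),(24,24,0,1),(25,25,0,1)]]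

noncomputable def f4IsoVs6 : List (List (PolyMat.Term)) := [
    [(0,0,0,1),(20,0,1,-1),(1,1,0,1),(20,1,1,1),(2,2,0,1),(6,2,1,-1),(3,3,0,1),(4,4,0,1),(12,4,1,1),(5,5,0,1),(13,5,1,1),(6,6,0,1),(7,7,0,1),(20,7,2,-1),(0,7,1,1),(1,7,1,1),(8,8,0,1),(9,9,0,1),(10,10,0,1),(16,10,1,1),(11,11,0,1),(17,11,1,-1),(12,12,0,1),(13,13,0,1),(14,14,0,1),(22,14,1,-1),(15,15,0,1),(23,15,1,-1),(16,16,0,1),(17,17,0,1),(18,18,0,1),(19,19,0,1),(20,20,0,1),(21,21,0,1),(25,21,1,1),(22,22,0,1),(23,23,0,1),(24,24,0,1),(25,25,0,1)],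
    [(0,0,0,1),(21,0,1,0),(1,1,0,1),(21,1,1,-1),(2,2,0,1),(7,2,1,1),(3,3,0,1),(11,3,1,1),(4,4,0,1),(5,5,0,1),(6,6,0,1),(21,6,2,-1),(0,6,1,1),(1,6,1,2),(7,7,0,1),(8,8,0,1),(14,8,1,1),(9,9,0,1),(15,9,1,-1),(10,10,0,1),(11,11,0,1),(12,12,0,1),(18,12,1,1),(13,13,0,1),(19,13,1,-1),(14,14,0,1),(15,15,0,1),(16,16,0,1),(24,16,1,-1),(17,17,0,1),(18,18,0,1),(19,19,0,1),(20,20,0,1),(25,20,1,-1),(21,21,0,1),(22,22,0,1),(23,23,0,1),(24,24,0,1),(25,25,0,1)],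
    [(0,0,0,1),(22,0,1,0),(1,1,0,1),(22,1,1,-1),(2,2,0,1),(8,2,1,-1),(3,3,0,1),(12,3,1,-1),(4,4,0,1),(5,5,0,1),(22,5,2,-1),(0,5,1,1),(1,5,1,2),(6,6,0,1),(7,7,0,1),(14,7,1,1),(8,8,0,1),(9,9,0,1),(16,9,1,-1),(10,10,0,1),(11,11,0,1),(18,11,1,1),(12,12,0,1),(13,13,0,1),(20,13,1,-1),(14,14,0,1),(15,15,0,1),(24,15,1,1),(16,16,0,1),(17,17,0,1),(18,18,0,1),(19,19,0,1),(25,19,1,1),(20,20,0,1),(21,21,0,1),(22,22,0,1),(23,23,0,1),(24,24,0,1),(25,25,0,1)],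
    [(0,0,0,1),(23,0,1,0),(1,1,0,1),(23,1,1,1),(2,2,0,1),(9,2,1,1),(3,3,0,1),(13,3,1,1),(4,4,0,1),(23,4,2,-1),(0,4,1,1),(1,4,1,2),(5,5,0,1),(6,6,0,1),(7,7,0,1),(15,7,1,1),(8,8,0,1),(16,8,1,-1),(9,9,0,1),(10,10,0,1),(11,11,0,1),(19,11,1,1),(12,12,0,1),(20,12,1,-1),(13,13,0,1),(14,14,0,1),(24,14,1,-1),(15,15,0,1),(16,16,0,1),(17,17,0,1),(18,18,0,1),(25,18,1,-1),(19,19,0,1),(20,20,0,1),(21,21,0,1),(22,22,0,1),(23,23,0,1),(24,24,0,1),(25,25,0,1)],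
    [(0,0,0,1),(24,0,1,1),(1,1,0,1),(24,1,1,-1),(2,2,0,1),(10,2,1,1),(3,3,0,1),(24,3,2,-1),(0,3,1,1),(1,3,1,3),(4,4,0,1),(14,4,1,1),(5,5,0,1),(15,5,1,-1),(6,6,0,1),(16,6,1,1),(7,7,0,1),(8,8,0,1),(9,9,0,1),(10,10,0,1),(11,11,0,1),(21,11,1,-1),(12,12,0,1),(22,12,1,1),(13,13,0,1),(23,13,1,-1),(14,14,0,1),(15,15,0,1),(16,16,0,1),(17,17,0,1),(25,17,1,-1),(18,18,0,1),(19,19,0,1),(20,20,0,1),(21,21,0,1),(22,22,0,1),(23,23,0,1),(24,24,0,1),(25,25,0,1)],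
    [(0,0,0,1),(1,1,0,1),(2,2,0,1),(11,2,1,1),(3,3,0,1),(4,4,0,1),(5,5,0,1),(6,6,0,1),(17,6,1,1),(7,7,0,1),(8,8,0,1),(18,8,1,-1),(9,9,0,1),(19,9,1,1),(10,10,0,1),(21,10,1,-1),(11,11,0,1),(12,12,0,1),(13,13,0,1),(14,14,0,1),(15,15,0,1),(16,16,0,1),(25,16,1,-1),(17,17,0,1),(18,18,0,1),(19,19,0,1),(20,20,0,1),(21,21,0,1),(22,22,0,1),(23,23,0,1),(24,24,0,1),(25,25,0,1)]]

noncomputable def f4IsoVs7 : List (List (PolyMat.Term)) := [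
    [(0,0,0,1),(1,1,0,1),(2,2,0,1),(12,2,1,-1),(3,3,0,1),(4,4,0,1),(5,5,0,1),(17,5,1,1),(6,6,0,1),(7,7,0,1),(18,7,1,-1),(8,8,0,1),(9,9,0,1),(20,9,1,1),(10,10,0,1),(22,10,1,-1),(11,11,0,1),(12,12,0,1),(13,13,0,1),(14,14,0,1),(15,15,0,1),(25,15,1,1),(16,16,0,1),(17,17,0,1),(18,18,0,1),(19,19,0,1),(20,20,0,1),(21,21,0,1),(22,22,0,1),(23,23,0,1),(24,24,0,1),(25,25,0,1)],
    [(0,0,0,1),(1,1,0,1),(2,2,0,1),(13,2,1,1),(3,3,0,1),(4,4,0,1),(17,4,1,1),(5,5,0,1),(6,6,0,1),(7,7,0,1),(19,7,1,-1),(8,8,0,1),(20,8,1,1),(9,9,0,1),(10,10,0,1),(23,10,1,-1),(11,11,0,1),(12,12,0,1),(13,13,0,1),(14,14,0,1),(25,14,1,-1),(15,15,0,1),(16,16,0,1),(17,17,0,1),(18,18,0,1),(19,19,0,1),(20,20,0,1),(21,21,0,1),(22,22,0,1),(23,23,0,1),(24,24,0,1),(25,25,0,1)],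
    [(0,0,0,1),(25,0,1,-1),(1,1,0,1),(25,1,1,0),(2,2,0,1),(25,2,2,-1),(0,2,1,2),(1,2,1,3),(3,3,0,1),(17,3,1,1),(4,4,0,1),(18,4,1,1),(5,5,0,1),(19,5,1,-1),(6,6,0,1),(20,6,1,1),(7,7,0,1),(21,7,1,-1),(8,8,0,1),(22,8,1,1),(9,9,0,1),(23,9,1,-1),(10,10,0,1),(24,10,1,-1),(11,11,0,1),(12,12,0,1),(13,13,0,1),(14,14,0,1),(15,15,0,1),(16,16,0,1),(17,17,0,1),(18,18,0,1),(19,19,0,1),(20,20,0,1),(21,21,0,1),(22,22,0,1),(23,23,0,1),(24,24,0,1),(25,25,0,1)],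
    [(0,0,0,1),(1,1,0,1),(2,2,0,1),(14,2,1,1),(3,3,0,1),(18,3,1,1),(4,4,0,1),(5,5,0,1),(21,5,1,-1),(6,6,0,1),(22,6,1,1),(7,7,0,1),(8,8,0,1),(9,9,0,1),(24,9,1,-1),(10,10,0,1),(11,11,0,1),(12,12,0,1),(13,13,0,1),(25,13,1,-1),(14,14,0,1),(15,15,0,1),(16,16,0,1),(17,17,0,1),(18,18,0,1),(19,19,0,1),(20,20,0,1),(21,21,0,1),(22,22,0,1),(23,23,0,1),(24,24,0,1),(25,25,0,1)],
    [(0,0,0,1),(1,1,0,1),(2,2,0,1),(15,2,1,1),(3,3,0,1),(19,3,1,1),(4,4,0,1),(21,4,1,-1),(5,5,0,1),(6,6,0,1),(23,6,1,1),(7,7,0,1),(8,8,0,1),(24,8,1,-1),(9,9,0,1),(10,10,0,1),(11,11,0,1),(12,12,0,1),(25,12,1,-1),(13,13,0,1),(14,14,0,1),(15,15,0,1),(16,16,0,1),(17,17,0,1),(18,18,0,1),(19,19,0,1),(20,20,0,1),(21,21,0,1),(22,22,0,1),(23,23,0,1),(24,24,0,1),(25,25,0,1)],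
    [(0,0,0,1),(1,1,0,1),(2,2,0,1),(16,2,1,1),(3,3,0,1),(20,3,1,1),(4,4,0,1),(22,4,1,-1),(5,5,0,1),(23,5,1,1),(6,6,0,1),(7,7,0,1),(24,7,1,-1),(8,8,0,1),(9,9,0,1),(10,10,0,1),(11,11,0,1),(25,11,1,-1),(12,12,0,1),(13,13,0,1),(14,14,0,1),(15,15,0,1),(16,16,0,1),(17,17,0,1),(18,18,0,1),(19,19,0,1),(20,20,0,1),(21,21,0,1),(22,22,0,1),(23,23,0,1),(24,24,0,1),(25,25,0,1)]]

noncomputable def f4IsoWs0 : List (List (PolyMat.Term)) := [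
    [(1,1,0,1),(2,1,1,0),(0,0,0,1),(2,0,1,1),(2,2,0,1),(3,3,0,1),(4,4,0,1),(5,5,0,1),(7,7,0,1),(11,11,0,1),(6,6,0,1),(8,8,0,1),(12,12,0,1),(9,9,0,1),(13,13,0,1),(10,10,0,1),(17,17,0,1),(3,17,1,1),(14,14,0,1),(18,18,0,1),(4,18,1,1),(15,15,0,1),(19,19,0,1),(5,19,1,-1),(21,21,0,1),(7,21,1,1),(16,16,0,1),(20,20,0,1),(6,20,1,-1),(22,22,0,1),(8,22,1,1),(23,23,0,1),(9,23,1,-1),(24,24,0,1),(10,24,1,-1),(25,25,0,1),(2,25,2,-1),(1,25,1,-3),(0,25,1,-2)],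
    [(1,1,0,1),(3,1,1,1),(0,0,0,1),(3,0,1,-1),(2,2,0,1),(3,3,0,1),(4,4,0,1),(5,5,0,1),(7,7,0,1),(11,11,0,1),(6,6,0,1),(8,8,0,1),(12,12,0,1),(9,9,0,1),(13,13,0,1),(10,10,0,1),(2,10,1,1),(17,17,0,1),(14,14,0,1),(4,14,1,1),(18,18,0,1),(15,15,0,1),(5,15,1,-1),(19,19,0,1),(21,21,0,1),(11,21,1,1),(16,16,0,1),(6,16,1,-1),(20,20,0,1),(22,22,0,1),(12,22,1,1),(23,23,0,1),(13,23,1,-1),(24,24,0,1),(3,24,2,-1),(1,24,1,-3),(0,24,1,-1),(25,25,0,1),(17,25,1,-1)],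
    [(1,1,0,1),(4,1,1,-1),(0,0,0,1),(4,0,1,0),(2,2,0,1),(3,3,0,1),(4,4,0,1),(5,5,0,1),(7,7,0,1),(11,11,0,1),(6,6,0,1),(8,8,0,1),(12,12,0,1),(9,9,0,1),(2,9,1,1),(13,13,0,1),(3,13,1,1),(10,10,0,1),(17,17,0,1),(14,14,0,1),(18,18,0,1),(15,15,0,1),(7,15,1,-1),(19,19,0,1),(11,19,1,1),(21,21,0,1),(16,16,0,1),(8,16,1,-1),(20,20,0,1),(12,20,1,1),(22,22,0,1),(23,23,0,1),(4,23,2,-1),(1,23,1,-2),(0,23,1,-1),(24,24,0,1),(14,24,1,-1),(25,25,0,1),(18,25,1,-1)],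
    [(1,1,0,1),(0,0,0,1),(2,2,0,1),(3,3,0,1),(4,4,0,1),(5,5,0,1),(7,7,0,1),(11,11,0,1),(6,6,0,1),(8,8,0,1),(12,12,0,1),(9,9,0,1),(13,13,0,1),(10,10,0,1),(17,17,0,1),(14,14,0,1),(18,18,0,1),(15,15,0,1),(19,19,0,1),(21,21,0,1),(16,16,0,1),(2,16,2,-1),(20,20,0,1),(3,20,2,1),(22,22,0,1),(4,22,2,-1),(23,23,0,1),(5,23,2,-1),(24,24,0,1),(7,24,2,1),(25,25,0,1),(11,25,2,-1)],
    [(1,1,0,1),(5,1,1,1),(0,0,0,1),(5,0,1,0),(2,2,0,1),(3,3,0,1),(4,4,0,1),(5,5,0,1),(7,7,0,1),(11,11,0,1),(6,6,0,1),(8,8,0,1),(2,8,1,-1),(12,12,0,1),(3,12,1,-1),(9,9,0,1),(13,13,0,1),(10,10,0,1),(17,17,0,1),(14,14,0,1),(7,14,1,1),(18,18,0,1),(11,18,1,-1),(15,15,0,1),(19,19,0,1),(21,21,0,1),(16,16,0,1),(9,16,1,1),(20,20,0,1),(13,20,1,-1),(22,22,0,1),(5,22,2,-1),(1,22,1,-2),(0,22,1,-1),(23,23,0,1),(24,24,0,1),(15,24,1,1),(25,25,0,1),(19,25,1,1)],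
    [(1,1,0,1),(7,1,1,-1),(0,0,0,1),(7,0,1,1),(2,2,0,1),(3,3,0,1),(4,4,0,1),(5,5,0,1),(7,7,0,1),(11,11,0,1),(6,6,0,1),(2,6,1,1),(8,8,0,1),(12,12,0,1),(4,12,1,-1),(9,9,0,1),(13,13,0,1),(5,13,1,1),(10,10,0,1),(17,17,0,1),(11,17,1,1),(14,14,0,1),(18,18,0,1),(15,15,0,1),(19,19,0,1),(21,21,0,1),(16,16,0,1),(10,16,1,-1),(20,20,0,1),(7,20,2,-1),(1,20,1,-1),(0,20,1,-1),(22,22,0,1),(14,22,1,-1),(23,23,0,1),(15,23,1,1),(24,24,0,1),(25,25,0,1),(21,25,1,-1)]]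

noncomputable def f4IsoWs1 : List (List (PolyMat.Term)) := [
    [(1,1,0,1),(11,1,1,0),(0,0,0,1),(11,0,1,-1),(2,2,0,1),(3,3,0,1),(4,4,0,1),(5,5,0,1),(7,7,0,1),(11,11,0,1),(6,6,0,1),(3,6,1,1),(8,8,0,1),(4,8,1,1),(12,12,0,1),(9,9,0,1),(5,9,1,-1),(13,13,0,1),(10,10,0,1),(7,10,1,1),(17,17,0,1),(14,14,0,1),(18,18,0,1),(15,15,0,1),(19,19,0,1),(21,21,0,1),(16,16,0,1),(11,16,2,-1),(1,16,1,-1),(0,16,1,0),(20,20,0,1),(17,20,1,-1),(22,22,0,1),(18,22,1,1),(23,23,0,1),(19,23,1,-1),(24,24,0,1),(21,24,1,-1),(25,25,0,1)],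
    [(1,1,0,1),(0,0,0,1),(2,2,0,1),(3,3,0,1),(4,4,0,1),(5,5,0,1),(7,7,0,1),(11,11,0,1),(6,6,0,1),(8,8,0,1),(12,12,0,1),(9,9,0,1),(13,13,0,1),(10,10,0,1),(17,17,0,1),(14,14,0,1),(18,18,0,1),(15,15,0,1),(2,15,2,1),(19,19,0,1),(3,19,2,-1),(21,21,0,1),(4,21,2,1),(16,16,0,1),(20,20,0,1),(22,22,0,1),(23,23,0,1),(6,23,2,1),(24,24,0,1),(8,24,2,-1),(25,25,0,1),(12,25,2,1)],
    [(1,1,0,1),(0,0,0,1),(2,2,0,1),(3,3,0,1),(4,4,0,1),(5,5,0,1),(7,7,0,1),(11,11,0,1),(6,6,0,1),(8,8,0,1),(12,12,0,1),(9,9,0,1),(13,13,0,1),(10,10,0,1),(17,17,0,1),(14,14,0,1),(2,14,2,-1),(18,18,0,1),(3,18,2,1),(15,15,0,1),(19,19,0,1),(21,21,0,1),(5,21,2,1),(16,16,0,1),(20,20,0,1),(22,22,0,1),(6,22,2,1),(23,23,0,1),(24,24,0,1),(9,24,2,1),(25,25,0,1),(13,25,2,-1)],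
    [(1,1,0,1),(0,0,0,1),(2,2,0,1),(3,3,0,1),(4,4,0,1),(5,5,0,1),(7,7,0,1),(11,11,0,1),(6,6,0,1),(8,8,0,1),(12,12,0,1),(9,9,0,1),(13,13,0,1),(2,13,2,1),(10,10,0,1),(17,17,0,1),(4,17,2,-1),(14,14,0,1),(18,18,0,1),(15,15,0,1),(19,19,0,1),(7,19,2,1),(21,21,0,1),(16,16,0,1),(20,20,0,1),(8,20,2,1),(22,22,0,1),(23,23,0,1),(10,23,2,-1),(24,24,0,1),(25,25,0,1),(14,25,2,1)],
    [(1,1,0,1),(0,0,0,1),(2,2,0,1),(3,3,0,1),(4,4,0,1),(5,5,0,1),(7,7,0,1),(11,11,0,1),(6,6,0,1),(8,8,0,1),(12,12,0,1),(9,9,0,1),(3,9,2,-1),(13,13,0,1),(10,10,0,1),(4,10,2,1),(17,17,0,1),(14,14,0,1),(18,18,0,1),(15,15,0,1),(11,15,2,1),(19,19,0,1),(21,21,0,1),(16,16,0,1),(12,16,2,1),(20,20,0,1),(22,22,0,1),(23,23,0,1),(17,23,2,1),(24,24,0,1),(18,24,2,-1),(25,25,0,1)],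
    [(1,1,0,1),(0,0,0,1),(2,2,0,1),(3,3,0,1),(4,4,0,1),(5,5,0,1),(7,7,0,1),(11,11,0,1),(6,6,0,1),(8,8,0,1),(12,12,0,1),(2,12,2,-1),(9,9,0,1),(13,13,0,1),(10,10,0,1),(17,17,0,1),(5,17,2,-1),(14,14,0,1),(18,18,0,1),(7,18,2,-1),(15,15,0,1),(19,19,0,1),(21,21,0,1),(16,16,0,1),(20,20,0,1),(9,20,2,-1),(22,22,0,1),(10,22,2,-1),(23,23,0,1),(24,24,0,1),(25,25,0,1),(15,25,2,-1)]]

noncomputable def f4IsoWs2 : List (List (PolyMat.Term)) := [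
    [(1,1,0,1),(0,0,0,1),(2,2,0,1),(3,3,0,1),(4,4,0,1),(5,5,0,1),(7,7,0,1),(11,11,0,1),(6,6,0,1),(8,8,0,1),(3,8,2,1),(12,12,0,1),(9,9,0,1),(13,13,0,1),(10,10,0,1),(5,10,2,1),(17,17,0,1),(14,14,0,1),(11,14,2,-1),(18,18,0,1),(15,15,0,1),(19,19,0,1),(21,21,0,1),(16,16,0,1),(13,16,2,-1),(20,20,0,1),(22,22,0,1),(17,22,2,1),(23,23,0,1),(24,24,0,1),(19,24,2,1),(25,25,0,1)],
    [(1,1,0,1),(0,0,0,1),(2,2,0,1),(3,3,0,1),(4,4,0,1),(5,5,0,1),(7,7,0,1),(11,11,0,1),(6,6,0,1),(4,6,2,-1),(8,8,0,1),(12,12,0,1),(9,9,0,1),(7,9,2,1),(13,13,0,1),(11,13,2,1),(10,10,0,1),(17,17,0,1),(14,14,0,1),(18,18,0,1),(15,15,0,1),(19,19,0,1),(21,21,0,1),(16,16,0,1),(14,16,2,1),(20,20,0,1),(18,20,2,1),(22,22,0,1),(23,23,0,1),(21,23,2,-1),(24,24,0,1),(25,25,0,1)],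
    [(1,1,0,1),(0,0,0,1),(2,2,0,1),(3,3,0,1),(4,4,0,1),(5,5,0,1),(7,7,0,1),(11,11,0,1),(6,6,0,1),(5,6,2,-1),(8,8,0,1),(7,8,2,-1),(12,12,0,1),(11,12,2,-1),(9,9,0,1),(13,13,0,1),(10,10,0,1),(17,17,0,1),(14,14,0,1),(18,18,0,1),(15,15,0,1),(19,19,0,1),(21,21,0,1),(16,16,0,1),(15,16,2,-1),(20,20,0,1),(19,20,2,-1),(22,22,0,1),(21,22,2,-1),(23,23,0,1),(24,24,0,1),(25,25,0,1)],
    [(1,1,0,1),(6,1,1,1),(0,0,0,1),(6,0,1,0),(2,2,0,1),(3,3,0,1),(4,4,0,1),(5,5,0,1),(7,7,0,1),(2,7,1,-1),(11,11,0,1),(3,11,1,-1),(6,6,0,1),(8,8,0,1),(12,12,0,1),(9,9,0,1),(13,13,0,1),(10,10,0,1),(17,17,0,1),(14,14,0,1),(8,14,1,1),(18,18,0,1),(12,18,1,-1),(15,15,0,1),(9,15,1,1),(19,19,0,1),(13,19,1,-1),(21,21,0,1),(6,21,2,-1),(1,21,1,-2),(0,21,1,-1),(16,16,0,1),(20,20,0,1),(22,22,0,1),(23,23,0,1),(24,24,0,1),(16,24,1,1),(25,25,0,1),(20,25,1,1)],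
    [(1,1,0,1),(8,1,1,-1),(0,0,0,1),(8,0,1,1),(2,2,0,1),(3,3,0,1),(4,4,0,1),(5,5,0,1),(2,5,1,1),(7,7,0,1),(11,11,0,1),(4,11,1,-1),(6,6,0,1),(8,8,0,1),(12,12,0,1),(9,9,0,1),(13,13,0,1),(6,13,1,1),(10,10,0,1),(17,17,0,1),(12,17,1,1),(14,14,0,1),(18,18,0,1),(15,15,0,1),(10,15,1,-1),(19,19,0,1),(8,19,2,-1),(1,19,1,-1),(0,19,1,-1),(21,21,0,1),(14,21,1,-1),(16,16,0,1),(20,20,0,1),(22,22,0,1),(23,23,0,1),(16,23,1,1),(24,24,0,1),(25,25,0,1),(22,25,1,-1)],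
    [(1,1,0,1),(12,1,1,0),(0,0,0,1),(12,0,1,-1),(2,2,0,1),(3,3,0,1),(4,4,0,1),(5,5,0,1),(3,5,1,1),(7,7,0,1),(4,7,1,1),(11,11,0,1),(6,6,0,1),(8,8,0,1),(12,12,0,1),(9,9,0,1),(6,9,1,-1),(13,13,0,1),(10,10,0,1),(8,10,1,1),(17,17,0,1),(14,14,0,1),(18,18,0,1),(15,15,0,1),(12,15,2,-1),(1,15,1,-1),(0,15,1,0),(19,19,0,1),(17,19,1,-1),(21,21,0,1),(18,21,1,1),(16,16,0,1),(20,20,0,1),(22,22,0,1),(23,23,0,1),(20,23,1,-1),(24,24,0,1),(22,24,1,-1),(25,25,0,1)]]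

noncomputable def f4IsoWs3 : List (List (PolyMat.Term)) := [
    [(1,1,0,1),(0,0,0,1),(2,2,0,1),(3,3,0,1),(4,4,0,1),(5,5,0,1),(7,7,0,1),(11,11,0,1),(2,11,2,1),(6,6,0,1),(8,8,0,1),(12,12,0,1),(9,9,0,1),(13,13,0,1),(10,10,0,1),(17,17,0,1),(6,17,2,1),(14,14,0,1),(18,18,0,1),(8,18,2,1),(15,15,0,1),(19,19,0,1),(9,19,2,1),(21,21,0,1),(10,21,2,1),(16,16,0,1),(20,20,0,1),(22,22,0,1),(23,23,0,1),(24,24,0,1),(25,25,0,1),(16,25,2,1)],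
    [(1,1,0,1),(0,0,0,1),(2,2,0,1),(3,3,0,1),(4,4,0,1),(5,5,0,1),(7,7,0,1),(3,7,2,-1),(11,11,0,1),(6,6,0,1),(8,8,0,1),(12,12,0,1),(9,9,0,1),(13,13,0,1),(10,10,0,1),(6,10,2,-1),(17,17,0,1),(14,14,0,1),(12,14,2,1),(18,18,0,1),(15,15,0,1),(13,15,2,1),(19,19,0,1),(21,21,0,1),(17,21,2,-1),(16,16,0,1),(20,20,0,1),(22,22,0,1),(23,23,0,1),(24,24,0,1),(20,24,2,-1),(25,25,0,1)],
    [(1,1,0,1),(0,0,0,1),(2,2,0,1),(3,3,0,1),(4,4,0,1),(5,5,0,1),(4,5,2,1),(7,7,0,1),(11,11,0,1),(6,6,0,1),(8,8,0,1),(12,12,0,1),(9,9,0,1),(8,9,2,-1),(13,13,0,1),(12,13,2,-1),(10,10,0,1),(17,17,0,1),(14,14,0,1),(18,18,0,1),(15,15,0,1),(14,15,2,-1),(19,19,0,1),(18,19,2,-1),(21,21,0,1),(16,16,0,1),(20,20,0,1),(22,22,0,1),(23,23,0,1),(22,23,2,1),(24,24,0,1),(25,25,0,1)],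
    [(1,1,0,1),(9,1,1,1),(0,0,0,1),(9,0,1,1),(2,2,0,1),(3,3,0,1),(4,4,0,1),(2,4,1,-1),(5,5,0,1),(7,7,0,1),(11,11,0,1),(5,11,1,1),(6,6,0,1),(8,8,0,1),(12,12,0,1),(6,12,1,1),(9,9,0,1),(13,13,0,1),(10,10,0,1),(17,17,0,1),(13,17,1,1),(14,14,0,1),(10,14,1,-1),(18,18,0,1),(9,18,2,-1),(1,18,1,-1),(0,18,1,-1),(15,15,0,1),(19,19,0,1),(21,21,0,1),(15,21,1,-1),(16,16,0,1),(20,20,0,1),(22,22,0,1),(16,22,1,-1),(23,23,0,1),(24,24,0,1),(25,25,0,1),(23,25,1,1)],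
    [(1,1,0,1),(13,1,1,2),(0,0,0,1),(13,0,1,-1),(2,2,0,1),(3,3,0,1),(4,4,0,1),(3,4,1,-1),(5,5,0,1),(7,7,0,1),(5,7,1,-1),(11,11,0,1),(6,6,0,1),(8,8,0,1),(6,8,1,-1),(12,12,0,1),(9,9,0,1),(13,13,0,1),(10,10,0,1),(9,10,1,1),(17,17,0,1),(14,14,0,1),(13,14,2,-1),(1,14,1,-1),(0,14,1,0),(18,18,0,1),(17,18,1,-1),(15,15,0,1),(19,19,0,1),(21,21,0,1),(19,21,1,1),(16,16,0,1),(20,20,0,1),(22,22,0,1),(20,22,1,1),(23,23,0,1),(24,24,0,1),(23,24,1,1),(25,25,0,1)],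
    [(1,1,0,1),(10,1,1,-1),(0,0,0,1),(10,0,1,2),(2,2,0,1),(3,3,0,1),(2,3,1,-1),(4,4,0,1),(5,5,0,1),(7,7,0,1),(11,11,0,1),(7,11,1,-1),(6,6,0,1),(8,8,0,1),(12,12,0,1),(8,12,1,-1),(9,9,0,1),(13,13,0,1),(9,13,1,-1),(10,10,0,1),(17,17,0,1),(10,17,2,-1),(1,17,1,0),(0,17,1,-1),(14,14,0,1),(18,18,0,1),(14,18,1,1),(15,15,0,1),(19,19,0,1),(15,19,1,1),(21,21,0,1),(16,16,0,1),(20,20,0,1),(16,20,1,1),(22,22,0,1),(23,23,0,1),(24,24,0,1),(25,25,0,1),(24,25,1,1)]]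

noncomputable def f4IsoWs4 : List (List (PolyMat.Term)) := [
    [(1,1,0,1),(17,1,1,1),(0,0,0,1),(17,0,1,-2),(2,2,0,1),(3,2,1,-1),(3,3,0,1),(4,4,0,1),(5,5,0,1),(7,7,0,1),(11,7,1,-1),(11,11,0,1),(6,6,0,1),(8,8,0,1),(12,8,1,-1),(12,12,0,1),(9,9,0,1),(13,9,1,-1),(13,13,0,1),(10,10,0,1),(17,10,2,-1),(1,10,1,0),(0,10,1,1),(17,17,0,1),(14,14,0,1),(18,14,1,1),(18,18,0,1),(15,15,0,1),(19,15,1,1),(19,19,0,1),(21,21,0,1),(16,16,0,1),(20,16,1,1),(20,20,0,1),(22,22,0,1),(23,23,0,1),(24,24,0,1),(25,24,1,1),(25,25,0,1)],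
    [(1,1,0,1),(14,1,1,-2),(0,0,0,1),(14,0,1,1),(2,2,0,1),(3,3,0,1),(4,3,1,-1),(4,4,0,1),(5,5,0,1),(7,5,1,-1),(7,7,0,1),(11,11,0,1),(6,6,0,1),(8,6,1,-1),(8,8,0,1),(12,12,0,1),(9,9,0,1),(10,9,1,1),(13,13,0,1),(14,13,2,-1),(1,13,1,1),(0,13,1,0),(10,10,0,1),(17,17,0,1),(18,17,1,-1),(14,14,0,1),(18,18,0,1),(15,15,0,1),(19,19,0,1),(21,19,1,1),(21,21,0,1),(16,16,0,1),(20,20,0,1),(22,20,1,1),(22,22,0,1),(23,23,0,1),(24,23,1,1),(24,24,0,1),(25,25,0,1)],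
    [(1,1,0,1),(18,1,1,-1),(0,0,0,1),(18,0,1,-1),(2,2,0,1),(4,2,1,-1),(3,3,0,1),(4,4,0,1),(5,5,0,1),(11,5,1,1),(7,7,0,1),(11,11,0,1),(6,6,0,1),(12,6,1,1),(8,8,0,1),(12,12,0,1),(9,9,0,1),(18,9,2,-1),(1,9,1,1),(0,9,1,1),(13,13,0,1),(17,13,1,1),(10,10,0,1),(14,10,1,-1),(17,17,0,1),(14,14,0,1),(18,18,0,1),(15,15,0,1),(21,15,1,-1),(19,19,0,1),(21,21,0,1),(16,16,0,1),(22,16,1,-1),(20,20,0,1),(22,22,0,1),(23,23,0,1),(25,23,1,1),(24,24,0,1),(25,25,0,1)],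
    [(1,1,0,1),(0,0,0,1),(2,2,0,1),(3,3,0,1),(4,4,0,1),(5,4,2,1),(5,5,0,1),(7,7,0,1),(11,11,0,1),(6,6,0,1),(8,8,0,1),(9,8,2,-1),(12,12,0,1),(13,12,2,-1),(9,9,0,1),(13,13,0,1),(10,10,0,1),(17,17,0,1),(14,14,0,1),(15,14,2,-1),(18,18,0,1),(19,18,2,-1),(15,15,0,1),(19,19,0,1),(21,21,0,1),(16,16,0,1),(20,20,0,1),(22,22,0,1),(23,22,2,1),(23,23,0,1),(24,24,0,1),(25,25,0,1)],
    [(1,1,0,1),(0,0,0,1),(2,2,0,1),(3,3,0,1),(7,3,2,-1),(4,4,0,1),(5,5,0,1),(7,7,0,1),(11,11,0,1),(6,6,0,1),(10,6,2,-1),(8,8,0,1),(12,12,0,1),(14,12,2,1),(9,9,0,1),(13,13,0,1),(15,13,2,1),(10,10,0,1),(17,17,0,1),(21,17,2,-1),(14,14,0,1),(18,18,0,1),(15,15,0,1),(19,19,0,1),(21,21,0,1),(16,16,0,1),(20,20,0,1),(24,20,2,-1),(22,22,0,1),(23,23,0,1),(24,24,0,1),(25,25,0,1)],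
    [(1,1,0,1),(0,0,0,1),(2,2,0,1),(11,2,2,1),(3,3,0,1),(4,4,0,1),(5,5,0,1),(7,7,0,1),(11,11,0,1),(6,6,0,1),(17,6,2,1),(8,8,0,1),(18,8,2,1),(12,12,0,1),(9,9,0,1),(19,9,2,1),(13,13,0,1),(10,10,0,1),(21,10,2,1),(17,17,0,1),(14,14,0,1),(18,18,0,1),(15,15,0,1),(19,19,0,1),(21,21,0,1),(16,16,0,1),(25,16,2,1),(20,20,0,1),(22,22,0,1),(23,23,0,1),(24,24,0,1),(25,25,0,1)]]

noncomputable def f4IsoWs5 : List (List (PolyMat.Term)) := [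
    [(1,1,0,1),(15,1,1,0),(0,0,0,1),(15,0,1,1),(2,2,0,1),(3,3,0,1),(5,3,1,1),(4,4,0,1),(7,4,1,1),(5,5,0,1),(7,7,0,1),(11,11,0,1),(6,6,0,1),(9,6,1,-1),(8,8,0,1),(10,8,1,1),(12,12,0,1),(15,12,2,-1),(1,12,1,1),(0,12,1,0),(9,9,0,1),(13,13,0,1),(10,10,0,1),(17,17,0,1),(19,17,1,-1),(14,14,0,1),(18,18,0,1),(21,18,1,1),(15,15,0,1),(19,19,0,1),(21,21,0,1),(16,16,0,1),(20,20,0,1),(23,20,1,-1),(22,22,0,1),(24,22,1,-1),(23,23,0,1),(24,24,0,1),(25,25,0,1)],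
    [(1,1,0,1),(19,1,1,1),(0,0,0,1),(19,0,1,-1),(2,2,0,1),(5,2,1,1),(3,3,0,1),(4,4,0,1),(11,4,1,-1),(5,5,0,1),(7,7,0,1),(11,11,0,1),(6,6,0,1),(13,6,1,1),(8,8,0,1),(19,8,2,-1),(1,8,1,1),(0,8,1,1),(12,12,0,1),(17,12,1,1),(9,9,0,1),(13,13,0,1),(10,10,0,1),(15,10,1,-1),(17,17,0,1),(14,14,0,1),(21,14,1,-1),(18,18,0,1),(15,15,0,1),(19,19,0,1),(21,21,0,1),(16,16,0,1),(23,16,1,1),(20,20,0,1),(22,22,0,1),(25,22,1,-1),(23,23,0,1),(24,24,0,1),(25,25,0,1)],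
    [(1,1,0,1),(21,1,1,-1),(0,0,0,1),(21,0,1,0),(2,2,0,1),(7,2,1,-1),(3,3,0,1),(11,3,1,-1),(4,4,0,1),(5,5,0,1),(7,7,0,1),(11,11,0,1),(6,6,0,1),(21,6,2,-1),(1,6,1,2),(0,6,1,1),(8,8,0,1),(14,8,1,1),(12,12,0,1),(18,12,1,-1),(9,9,0,1),(15,9,1,1),(13,13,0,1),(19,13,1,-1),(10,10,0,1),(17,17,0,1),(14,14,0,1),(18,18,0,1),(15,15,0,1),(19,19,0,1),(21,21,0,1),(16,16,0,1),(24,16,1,1),(20,20,0,1),(25,20,1,1),(22,22,0,1),(23,23,0,1),(24,24,0,1),(25,25,0,1)],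
    [(1,1,0,1),(0,0,0,1),(2,2,0,1),(3,3,0,1),(4,4,0,1),(5,5,0,1),(6,5,2,-1),(7,7,0,1),(8,7,2,-1),(11,11,0,1),(12,11,2,-1),(6,6,0,1),(8,8,0,1),(12,12,0,1),(9,9,0,1),(13,13,0,1),(10,10,0,1),(17,17,0,1),(14,14,0,1),(18,18,0,1),(15,15,0,1),(16,15,2,-1),(19,19,0,1),(20,19,2,-1),(21,21,0,1),(22,21,2,-1),(16,16,0,1),(20,20,0,1),(22,22,0,1),(23,23,0,1),(24,24,0,1),(25,25,0,1)],
    [(1,1,0,1),(0,0,0,1),(2,2,0,1),(3,3,0,1),(4,4,0,1),(6,4,2,-1),(5,5,0,1),(7,7,0,1),(9,7,2,1),(11,11,0,1),(13,11,2,1),(6,6,0,1),(8,8,0,1),(12,12,0,1),(9,9,0,1),(13,13,0,1),(10,10,0,1),(17,17,0,1),(14,14,0,1),(16,14,2,1),(18,18,0,1),(20,18,2,1),(15,15,0,1),(19,19,0,1),(21,21,0,1),(23,21,2,-1),(16,16,0,1),(20,20,0,1),(22,22,0,1),(23,23,0,1),(24,24,0,1),(25,25,0,1)],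
    [(1,1,0,1),(0,0,0,1),(2,2,0,1),(3,3,0,1),(8,3,2,1),(4,4,0,1),(5,5,0,1),(10,5,2,1),(7,7,0,1),(11,11,0,1),(14,11,2,-1),(6,6,0,1),(8,8,0,1),(12,12,0,1),(9,9,0,1),(13,13,0,1),(16,13,2,-1),(10,10,0,1),(17,17,0,1),(22,17,2,1),(14,14,0,1),(18,18,0,1),(15,15,0,1),(19,19,0,1),(24,19,2,1),(21,21,0,1),(16,16,0,1),(20,20,0,1),(22,22,0,1),(23,23,0,1),(24,24,0,1),(25,25,0,1)]]

noncomputable def f4IsoWs6 : List (List (PolyMat.Term)) := [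
    [(1,1,0,1),(0,0,0,1),(2,2,0,1),(12,2,2,-1),(3,3,0,1),(4,4,0,1),(5,5,0,1),(17,5,2,-1),(7,7,0,1),(18,7,2,-1),(11,11,0,1),(6,6,0,1),(8,8,0,1),(12,12,0,1),(9,9,0,1),(20,9,2,-1),(13,13,0,1),(10,10,0,1),(22,10,2,-1),(17,17,0,1),(14,14,0,1),(18,18,0,1),(15,15,0,1),(25,15,2,-1),(19,19,0,1),(21,21,0,1),(16,16,0,1),(20,20,0,1),(22,22,0,1),(23,23,0,1),(24,24,0,1),(25,25,0,1)],
    [(1,1,0,1),(0,0,0,1),(2,2,0,1),(3,3,0,1),(9,3,2,-1),(4,4,0,1),(10,4,2,1),(5,5,0,1),(7,7,0,1),(11,11,0,1),(15,11,2,1),(6,6,0,1),(8,8,0,1),(12,12,0,1),(16,12,2,1),(9,9,0,1),(13,13,0,1),(10,10,0,1),(17,17,0,1),(23,17,2,1),(14,14,0,1),(18,18,0,1),(24,18,2,-1),(15,15,0,1),(19,19,0,1),(21,21,0,1),(16,16,0,1),(20,20,0,1),(22,22,0,1),(23,23,0,1),(24,24,0,1),(25,25,0,1)],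
    [(1,1,0,1),(0,0,0,1),(2,2,0,1),(13,2,2,1),(3,3,0,1),(4,4,0,1),(17,4,2,-1),(5,5,0,1),(7,7,0,1),(19,7,2,1),(11,11,0,1),(6,6,0,1),(8,8,0,1),(20,8,2,1),(12,12,0,1),(9,9,0,1),(13,13,0,1),(10,10,0,1),(23,10,2,-1),(17,17,0,1),(14,14,0,1),(25,14,2,1),(18,18,0,1),(15,15,0,1),(19,19,0,1),(21,21,0,1),(16,16,0,1),(20,20,0,1),(22,22,0,1),(23,23,0,1),(24,24,0,1),(25,25,0,1)],
    [(1,1,0,1),(0,0,0,1),(2,2,0,1),(14,2,2,-1),(3,3,0,1),(18,3,2,1),(4,4,0,1),(5,5,0,1),(21,5,2,1),(7,7,0,1),(11,11,0,1),(6,6,0,1),(22,6,2,1),(8,8,0,1),(12,12,0,1),(9,9,0,1),(24,9,2,1),(13,13,0,1),(25,13,2,-1),(10,10,0,1),(17,17,0,1),(14,14,0,1),(18,18,0,1),(15,15,0,1),(19,19,0,1),(21,21,0,1),(16,16,0,1),(20,20,0,1),(22,22,0,1),(23,23,0,1),(24,24,0,1),(25,25,0,1)],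
    [(1,1,0,1),(0,0,0,1),(2,2,0,1),(15,2,2,1),(3,3,0,1),(19,3,2,-1),(4,4,0,1),(21,4,2,1),(5,5,0,1),(7,7,0,1),(11,11,0,1),(6,6,0,1),(23,6,2,1),(8,8,0,1),(24,8,2,-1),(12,12,0,1),(25,12,2,1),(9,9,0,1),(13,13,0,1),(10,10,0,1),(17,17,0,1),(14,14,0,1),(18,18,0,1),(15,15,0,1),(19,19,0,1),(21,21,0,1),(16,16,0,1),(20,20,0,1),(22,22,0,1),(23,23,0,1),(24,24,0,1),(25,25,0,1)],
    [(1,1,0,1),(16,1,1,0),(0,0,0,1),(16,0,1,1),(2,2,0,1),(3,3,0,1),(6,3,1,1),(4,4,0,1),(8,4,1,1),(5,5,0,1),(9,5,1,-1),(7,7,0,1),(10,7,1,1),(11,11,0,1),(16,11,2,-1),(1,11,1,1),(0,11,1,0),(6,6,0,1),(8,8,0,1),(12,12,0,1),(9,9,0,1),(13,13,0,1),(10,10,0,1),(17,17,0,1),(20,17,1,-1),(14,14,0,1),(18,18,0,1),(22,18,1,1),(15,15,0,1),(19,19,0,1),(23,19,1,-1),(21,21,0,1),(24,21,1,-1),(16,16,0,1),(20,20,0,1),(22,22,0,1),(23,23,0,1),(24,24,0,1),(25,25,0,1)]]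

noncomputable def f4IsoWs7 : List (List (PolyMat.Term)) := [
    [(1,1,0,1),(20,1,1,1),(0,0,0,1),(20,0,1,-1),(2,2,0,1),(6,2,1,1),(3,3,0,1),(4,4,0,1),(12,4,1,-1),(5,5,0,1),(13,5,1,1),(7,7,0,1),(20,7,2,-1),(1,7,1,1),(0,7,1,1),(11,11,0,1),(17,11,1,1),(6,6,0,1),(8,8,0,1),(12,12,0,1),(9,9,0,1),(13,13,0,1),(10,10,0,1),(16,10,1,-1),(17,17,0,1),(14,14,0,1),(22,14,1,-1),(18,18,0,1),(15,15,0,1),(23,15,1,1),(19,19,0,1),(21,21,0,1),(25,21,1,-1),(16,16,0,1),(20,20,0,1),(22,22,0,1),(23,23,0,1),(24,24,0,1),(25,25,0,1)],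
    [(1,1,0,1),(22,1,1,-1),(0,0,0,1),(22,0,1,0),(2,2,0,1),(8,2,1,-1),(3,3,0,1),(12,3,1,-1),(4,4,0,1),(5,5,0,1),(22,5,2,-1),(1,5,1,2),(0,5,1,1),(7,7,0,1),(14,7,1,1),(11,11,0,1),(18,11,1,-1),(6,6,0,1),(8,8,0,1),(12,12,0,1),(9,9,0,1),(16,9,1,1),(13,13,0,1),(20,13,1,-1),(10,10,0,1),(17,17,0,1),(14,14,0,1),(18,18,0,1),(15,15,0,1),(24,15,1,1),(19,19,0,1),(25,19,1,1),(21,21,0,1),(16,16,0,1),(20,20,0,1),(22,22,0,1),(23,23,0,1),(24,24,0,1),(25,25,0,1)],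
    [(1,1,0,1),(0,0,0,1),(2,2,0,1),(16,2,2,-1),(3,3,0,1),(20,3,2,1),(4,4,0,1),(22,4,2,-1),(5,5,0,1),(23,5,2,-1),(7,7,0,1),(24,7,2,1),(11,11,0,1),(25,11,2,-1),(6,6,0,1),(8,8,0,1),(12,12,0,1),(9,9,0,1),(13,13,0,1),(10,10,0,1),(17,17,0,1),(14,14,0,1),(18,18,0,1),(15,15,0,1),(19,19,0,1),(21,21,0,1),(16,16,0,1),(20,20,0,1),(22,22,0,1),(23,23,0,1),(24,24,0,1),(25,25,0,1)],
    [(1,1,0,1),(23,1,1,1),(0,0,0,1),(23,0,1,0),(2,2,0,1),(9,2,1,1),(3,3,0,1),(13,3,1,1),(4,4,0,1),(23,4,2,-1),(1,4,1,2),(0,4,1,1),(5,5,0,1),(7,7,0,1),(15,7,1,-1),(11,11,0,1),(19,11,1,1),(6,6,0,1),(8,8,0,1),(16,8,1,-1),(12,12,0,1),(20,12,1,1),(9,9,0,1),(13,13,0,1),(10,10,0,1),(17,17,0,1),(14,14,0,1),(24,14,1,-1),(18,18,0,1),(25,18,1,-1),(15,15,0,1),(19,19,0,1),(21,21,0,1),(16,16,0,1),(20,20,0,1),(22,22,0,1),(23,23,0,1),(24,24,0,1),(25,25,0,1)],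
    [(1,1,0,1),(24,1,1,-1),(0,0,0,1),(24,0,1,1),(2,2,0,1),(10,2,1,1),(3,3,0,1),(24,3,2,-1),(1,3,1,3),(0,3,1,1),(4,4,0,1),(14,4,1,1),(5,5,0,1),(15,5,1,-1),(7,7,0,1),(11,11,0,1),(21,11,1,1),(6,6,0,1),(16,6,1,-1),(8,8,0,1),(12,12,0,1),(22,12,1,1),(9,9,0,1),(13,13,0,1),(23,13,1,-1),(10,10,0,1),(17,17,0,1),(25,17,1,-1),(14,14,0,1),(18,18,0,1),(15,15,0,1),(19,19,0,1),(21,21,0,1),(16,16,0,1),(20,20,0,1),(22,22,0,1),(23,23,0,1),(24,24,0,1),(25,25,0,1)],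
    [(1,1,0,1),(25,1,1,0),(0,0,0,1),(25,0,1,-1),(2,2,0,1),(25,2,2,-1),(1,2,1,3),(0,2,1,2),(3,3,0,1),(17,3,1,1),(4,4,0,1),(18,4,1,1),(5,5,0,1),(19,5,1,-1),(7,7,0,1),(21,7,1,1),(11,11,0,1),(6,6,0,1),(20,6,1,-1),(8,8,0,1),(22,8,1,1),(12,12,0,1),(9,9,0,1),(23,9,1,-1),(13,13,0,1),(10,10,0,1),(24,10,1,-1),(17,17,0,1),(14,14,0,1),(18,18,0,1),(15,15,0,1),(19,19,0,1),(21,21,0,1),(16,16,0,1),(20,20,0,1),(22,22,0,1),(23,23,0,1),(24,24,0,1),(25,25,0,1)]]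

noncomputable def f4Iso : IsoData where
  p := 2
  rho := [3, 7, 8, 0, 9, 11, 18, 1, 2, 4, 15, 5, 16, 21, 23, 10, 12, 19, 6, 17, 22, 13, 20, 14, 33, 27, 34, 25, 30, 41, 28, 35, 37, 24, 26, 31, 42, 32, 43, 45, 46, 29, 36, 38, 47, 39, 40, 44]
  lam := [1, 1, 1, 2, 1, 1, 1, 2, 2, 2, 2, 2, 2, 2, 2, 1, 1, 1, 2, 2, 2, 1, 1, 1, 1, 1, 1, 2, 2, 2, 1, 1, 1, 2, 2, 2, 2, 2, 2, 2, 2, 1, 1, 1, 2, 1, 1, 1]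
  A := []
  V := [0, 1, 7, 11, 12, 13, 14, 15, 16, 17, 18, 22, 23, 24, 31, 32, 33, 37, 38, 39, 40, 41, 42, 43, 44, 48]
  A2 := [0, 1, 7, 11, 12, 13, 14, 15, 16, 17, 18, 22, 23, 24, 31, 32, 33, 37, 38, 39, 40, 41, 42, 43, 44, 48]
  W := [3, 2, 4, 5, 6, 8, 19, 9, 20, 25, 27, 10, 21, 26, 29, 34, 45, 28, 30, 35, 46, 36, 47, 49, 50, 51]
  useW := false
  phi := f4IsoPhi0 ++ f4IsoPhi1 ++ f4IsoPhi2 ++ f4IsoPhi3 ++ f4IsoPhi4 ++ f4IsoPhi5 ++ f4IsoPhi6 ++ f4IsoPhi7 ++ f4IsoPhi8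
  inv := f4IsoInv0 ++ f4IsoInv1 ++ f4IsoInv2 ++ f4IsoInv3 ++ f4IsoInv4 ++ f4IsoInv5 ++ f4IsoInv6 ++ f4IsoInv7 ++ f4IsoInv8
  core := [33, 27, 25, 24, 14, 20, 22, 23]
  xs := f4IsoXs0 ++ f4IsoXs1 ++ f4IsoXs2 ++ f4IsoXs3 ++ f4IsoXs4 ++ f4IsoXs5 ++ f4IsoXs6 ++ f4IsoXs7
  vs := f4IsoVs0 ++ f4IsoVs1 ++ f4IsoVs2 ++ f4IsoVs3 ++ f4IsoVs4 ++ f4IsoVs5 ++ f4IsoVs6 ++ f4IsoVs7
  ws := f4IsoWs0 ++ f4IsoWs1 ++ f4IsoWs2 ++ f4IsoWs3 ++ f4IsoWs4 ++ f4IsoWs5 ++ f4IsoWs6 ++ f4IsoWs7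

end Cfsg.Agent.Lib.Twisted
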