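import Cfsg.Agent.Lib.Twisted.ExcIso
import Cfsg.Prelude.Def_ChevG2

/-! Certificate of the exceptional isogeny of type G2 in characteristic 3 (generated data). -/

set_option autoImplicit false

namespace Cfsg.Agent.Lib.Twisted

open Cfsg.Lie

noncomputable def g2IsoPhi0 : List (List (PolyMat.Term)) := [
    [(1,1,0,2),(2,2,0,1),(3,3,0,1),(4,4,0,2),(5,5,0,2),(6,6,0,1)],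
    [(2,2,0,2),(3,3,0,1),(4,4,0,2),(5,5,0,1)],
    [(1,5,0,1),(2,6,0,2)],
    [(1,4,0,1),(3,6,0,2)],
    [(0,6,0,1),(1,0,0,1),(2,4,0,1),(3,5,0,2)],
    [(0,5,0,2),(1,3,0,1),(2,0,0,2),(4,6,0,2)]]

noncomputable def g2IsoPhi1 : List (List (PolyMat.Term)) := [
    [(0,4,0,2),(1,2,0,2),(3,0,0,2),(5,6,0,1)],
    [(2,3,0,2),(4,5,0,1)],
    [(3,2,0,2),(5,4,0,1)],
    [(0,3,0,1),(2,1,0,2),(4,0,0,1),(6,5,0,1)],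
    [(0,2,0,1),(3,1,0,1),(5,0,0,1),(6,4,0,2)],
    [(0,1,0,2),(4,2,0,1),(5,3,0,2),(6,0,0,2)]]

noncomputable def g2IsoPhi2 : List (List (PolyMat.Term)) := [
    [(4,1,0,1),(6,3,0,2)],
    [(5,1,0,1),(6,2,0,2)]]

noncomputable def g2IsoInv0 : List (List (ℕ × ℕ × ℤ)) := [
    [(1,1,2)],
    [(1,1,2),(2,2,2)],
    [(1,5,1)],
    [(1,4,1)],
    [(0,6,1)],
    [(0,5,2)]]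

noncomputable def g2IsoInv1 : List (List (ℕ × ℕ × ℤ)) := [
    [(0,4,2)],
    [(2,3,2)],
    [(3,2,2)],
    [(0,3,1)],
    [(0,2,1)],
    [(0,1,2)]]

noncomputable def g2IsoInv2 : List (List (ℕ × ℕ × ℤ)) := [
    [(4,1,1)],
    [(5,1,1)]]

noncomputable def g2IsoXs0 : List (List (PolyMat.Term)) := [
    [(0,0,0,1),(2,0,1,0),(1,1,0,1),(2,1,1,1),(2,2,0,1),(3,3,0,1),(4,4,0,1),(5,5,0,1),(6,6,0,1),(7,7,0,1),(8,8,0,1),(3,8,1,1),(9,9,0,1),(10,10,0,1),(4,10,1,1),(11,11,0,1),(5,11,1,-1),(12,12,0,1),(7,12,1,-1),(13,13,0,1),(2,13,2,-1),(0,13,1,-1),(1,13,1,-2)],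
    [(0,0,0,1),(3,0,1,3),(1,1,0,1),(3,1,1,-1),(2,2,0,1),(3,3,0,1),(4,4,0,1),(5,5,0,1),(6,6,0,1),(7,7,0,1),(2,7,1,1),(8,8,0,1),(9,9,0,1),(4,9,1,1),(10,10,0,1),(11,11,0,1),(6,11,1,-1),(12,12,0,1),(3,12,2,-1),(0,12,1,-1),(1,12,1,-1),(13,13,0,1),(8,13,1,-1)],
    [(0,0,0,1),(4,0,1,1),(1,1,0,1),(4,1,1,0),(2,2,0,1),(3,3,0,1),(4,4,0,1),(5,5,0,1),(2,5,1,3),(6,6,0,1),(3,6,1,3),(7,7,0,1),(8,8,0,1),(9,9,0,1),(5,9,1,-2),(2,9,2,-3),(10,10,0,1),(6,10,1,2),(3,10,2,3),(11,11,0,1),(4,11,2,-1),(0,11,1,-2),(1,11,1,-3),(12,12,0,1),(9,12,1,-1),(5,12,2,1),(2,12,3,1),(13,13,0,1),(10,13,1,-1),(6,13,2,-1),(3,13,3,-1)],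
    [(0,0,0,1),(5,0,1,-1),(1,1,0,1),(5,1,1,1),(2,2,0,1),(3,3,0,1),(4,4,0,1),(2,4,1,-3),(5,5,0,1),(6,6,0,1),(4,6,1,-2),(2,6,2,3),(7,7,0,1),(8,8,0,1),(6,8,1,1),(4,8,2,-1),(2,8,3,1),(9,9,0,1),(7,9,1,-3),(10,10,0,1),(5,10,2,-1),(0,10,1,-1),(1,10,1,-3),(11,11,0,1),(9,11,1,2),(7,11,2,-3),(12,12,0,1),(13,13,0,1),(11,13,1,1),(9,13,2,1),(7,13,3,-1)],
    [(0,0,0,1),(6,0,1,2),(1,1,0,1),(6,1,1,-1),(2,2,0,1),(3,3,0,1),(4,4,0,1),(3,4,1,-3),(5,5,0,1),(4,5,1,2),(3,5,2,-3),(6,6,0,1),(7,7,0,1),(5,7,1,1),(4,7,2,1),(3,7,3,-1),(8,8,0,1),(9,9,0,1),(6,9,2,-1),(0,9,1,-1),(1,9,1,0),(10,10,0,1),(8,10,1,-3),(11,11,0,1),(10,11,1,-2),(8,11,2,3),(12,12,0,1),(11,12,1,1),(10,12,2,-1),(8,12,3,1),(13,13,0,1)],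
    [(0,0,0,1),(7,0,1,-3),(1,1,0,1),(7,1,1,2),(2,2,0,1),(3,3,0,1),(2,3,1,-1),(4,4,0,1),(5,5,0,1),(6,6,0,1),(5,6,1,-1),(7,7,0,1),(8,8,0,1),(7,8,2,-1),(0,8,1,0),(1,8,1,-1),(9,9,0,1),(10,10,0,1),(9,10,1,1),(11,11,0,1),(12,12,0,1),(13,13,0,1),(12,13,1,1)]]

noncomputable def g2IsoXs1 : List (List (PolyMat.Term)) := [
    [(0,0,0,1),(8,0,1,3),(1,1,0,1),(8,1,1,-2),(2,2,0,1),(3,2,1,-1),(3,3,0,1),(4,4,0,1),(5,5,0,1),(6,5,1,-1),(6,6,0,1),(7,7,0,1),(8,7,2,-1),(0,7,1,0),(1,7,1,1),(8,8,0,1),(9,9,0,1),(10,9,1,1),(10,10,0,1),(11,11,0,1),(12,12,0,1),(13,12,1,1),(13,13,0,1)],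
    [(0,0,0,1),(9,0,1,-2),(1,1,0,1),(9,1,1,1),(2,2,0,1),(3,3,0,1),(4,3,1,-1),(5,3,2,-1),(7,3,3,-1),(4,4,0,1),(5,4,1,2),(7,4,2,3),(5,5,0,1),(7,5,1,3),(6,6,0,1),(9,6,2,-1),(0,6,1,1),(1,6,1,0),(7,7,0,1),(8,8,0,1),(10,8,1,-1),(11,8,2,1),(12,8,3,1),(9,9,0,1),(10,10,0,1),(11,10,1,-2),(12,10,2,-3),(11,11,0,1),(12,11,1,3),(12,12,0,1),(13,13,0,1)],
    [(0,0,0,1),(10,0,1,1),(1,1,0,1),(10,1,1,-1),(2,2,0,1),(4,2,1,-1),(6,2,2,1),(8,2,3,1),(3,3,0,1),(4,4,0,1),(6,4,1,-2),(8,4,2,-3),(5,5,0,1),(10,5,2,-1),(0,5,1,1),(1,5,1,3),(6,6,0,1),(8,6,1,3),(7,7,0,1),(9,7,1,-1),(11,7,2,-1),(13,7,3,-1),(8,8,0,1),(9,9,0,1),(11,9,1,2),(13,9,2,3),(10,10,0,1),(11,11,0,1),(13,11,1,3),(12,12,0,1),(13,13,0,1)],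
    [(0,0,0,1),(11,0,1,-1),(1,1,0,1),(11,1,1,0),(2,2,0,1),(5,2,1,1),(9,2,2,-1),(12,2,3,1),(3,3,0,1),(6,3,1,1),(10,3,2,1),(13,3,3,-1),(4,4,0,1),(11,4,2,-1),(0,4,1,2),(1,4,1,3),(5,5,0,1),(9,5,1,-2),(12,5,2,3),(6,6,0,1),(10,6,1,2),(13,6,2,-3),(7,7,0,1),(8,8,0,1),(9,9,0,1),(12,9,1,-3),(10,10,0,1),(13,10,1,-3),(11,11,0,1),(12,12,0,1),(13,13,0,1)],
    [(0,0,0,1),(12,0,1,-3),(1,1,0,1),(12,1,1,1),(2,2,0,1),(7,2,1,1),(3,3,0,1),(12,3,2,-1),(0,3,1,1),(1,3,1,1),(4,4,0,1),(9,4,1,1),(5,5,0,1),(6,6,0,1),(11,6,1,-1),(7,7,0,1),(8,8,0,1),(13,8,1,-1),(9,9,0,1),(10,10,0,1),(11,11,0,1),(12,12,0,1),(13,13,0,1)],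
    [(0,0,0,1),(13,0,1,0),(1,1,0,1),(13,1,1,-1),(2,2,0,1),(13,2,2,-1),(0,2,1,1),(1,2,1,2),(3,3,0,1),(8,3,1,1),(4,4,0,1),(10,4,1,1),(5,5,0,1),(11,5,1,-1),(6,6,0,1),(7,7,0,1),(12,7,1,-1),(8,8,0,1),(9,9,0,1),(10,10,0,1),(11,11,0,1),(12,12,0,1),(13,13,0,1)]]

noncomputable def g2IsoVs0 : List (List (PolyMat.Term)) := [
    [(0,0,0,1),(1,1,0,1),(2,2,0,1),(3,3,0,1),(4,4,0,1),(5,5,0,1),(1,5,1,1),(6,6,0,1),(2,6,1,-1)],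
    [(0,0,0,1),(1,1,0,1),(2,2,0,1),(3,3,0,1),(4,4,0,1),(1,4,1,1),(5,5,0,1),(6,6,0,1),(3,6,1,-1)],
    [(0,0,0,1),(1,0,1,1),(1,1,0,1),(2,2,0,1),(3,3,0,1),(4,4,0,1),(2,4,1,-2),(5,5,0,1),(3,5,1,2),(6,6,0,1),(1,6,2,-1),(0,6,1,-2)],
    [(0,0,0,1),(2,0,1,-1),(1,1,0,1),(2,2,0,1),(3,3,0,1),(1,3,1,-2),(4,4,0,1),(5,5,0,1),(2,5,2,-1),(0,5,1,-1),(6,6,0,1),(4,6,1,2)],
    [(0,0,0,1),(3,0,1,2),(1,1,0,1),(2,2,0,1),(1,2,1,2),(3,3,0,1),(4,4,0,1),(3,4,2,-1),(0,4,1,-1),(5,5,0,1),(6,6,0,1),(5,6,1,-2)],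
    [(0,0,0,1),(1,1,0,1),(2,2,0,1),(3,3,0,1),(2,3,1,-1),(4,4,0,1),(5,5,0,1),(4,5,1,1),(6,6,0,1)]]

noncomputable def g2IsoVs1 : List (List (PolyMat.Term)) := [
    [(0,0,0,1),(1,1,0,1),(2,2,0,1),(3,2,1,-1),(3,3,0,1),(4,4,0,1),(5,4,1,1),(5,5,0,1),(6,6,0,1)],
    [(0,0,0,1),(4,0,1,-2),(1,1,0,1),(2,1,1,2),(2,2,0,1),(3,3,0,1),(4,3,2,-1),(0,3,1,1),(4,4,0,1),(5,5,0,1),(6,5,1,-2),(6,6,0,1)],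
    [(0,0,0,1),(5,0,1,1),(1,1,0,1),(3,1,1,-2),(2,2,0,1),(5,2,2,-1),(0,2,1,1),(3,3,0,1),(4,4,0,1),(6,4,1,2),(5,5,0,1),(6,6,0,1)],
    [(0,0,0,1),(6,0,1,-1),(1,1,0,1),(6,1,2,-1),(0,1,1,2),(2,2,0,1),(4,2,1,-2),(3,3,0,1),(5,3,1,2),(4,4,0,1),(5,5,0,1),(6,6,0,1)],
    [(0,0,0,1),(1,1,0,1),(4,1,1,1),(2,2,0,1),(3,3,0,1),(6,3,1,-1),(4,4,0,1),(5,5,0,1),(6,6,0,1)],
    [(0,0,0,1),(1,1,0,1),(5,1,1,1),(2,2,0,1),(6,2,1,-1),(3,3,0,1),(4,4,0,1),(5,5,0,1),(6,6,0,1)]]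

noncomputable def g2IsoWs0 : List (List (PolyMat.Term)) := [
    [(0,0,0,1),(1,0,1,1),(1,1,0,1),(2,2,0,1),(3,3,0,1),(4,4,0,1),(2,4,1,1),(5,5,0,1),(3,5,1,-1),(6,6,0,1),(1,6,2,-1),(0,6,1,-2)],
    [(0,0,0,1),(2,0,1,-1),(1,1,0,1),(2,2,0,1),(3,3,0,1),(1,3,1,1),(4,4,0,1),(5,5,0,1),(2,5,2,-1),(0,5,1,-1),(6,6,0,1),(4,6,1,-1)],
    [(0,0,0,1),(1,1,0,1),(2,2,0,1),(3,3,0,1),(4,4,0,1),(5,5,0,1),(1,5,3,1),(6,6,0,1),(2,6,3,-1)],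
    [(0,0,0,1),(1,1,0,1),(2,2,0,1),(3,3,0,1),(4,4,0,1),(1,4,3,1),(5,5,0,1),(6,6,0,1),(3,6,3,-1)],
    [(0,0,0,1),(1,1,0,1),(2,2,0,1),(3,3,0,1),(2,3,3,-1),(4,4,0,1),(5,5,0,1),(4,5,3,1),(6,6,0,1)],
    [(0,0,0,1),(3,0,1,2),(1,1,0,1),(2,2,0,1),(1,2,1,-1),(3,3,0,1),(4,4,0,1),(3,4,2,-1),(0,4,1,-1),(5,5,0,1),(6,6,0,1),(5,6,1,1)]]

noncomputable def g2IsoWs1 : List (List (PolyMat.Term)) := [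
    [(0,0,0,1),(4,0,1,-2),(1,1,0,1),(2,1,1,-1),(2,2,0,1),(3,3,0,1),(4,3,2,-1),(0,3,1,1),(4,4,0,1),(5,5,0,1),(6,5,1,1),(6,6,0,1)],
    [(0,0,0,1),(1,1,0,1),(2,2,0,1),(3,2,3,-1),(3,3,0,1),(4,4,0,1),(5,4,3,1),(5,5,0,1),(6,6,0,1)],
    [(0,0,0,1),(1,1,0,1),(4,1,3,1),(2,2,0,1),(3,3,0,1),(6,3,3,-1),(4,4,0,1),(5,5,0,1),(6,6,0,1)],
    [(0,0,0,1),(1,1,0,1),(5,1,3,1),(2,2,0,1),(6,2,3,-1),(3,3,0,1),(4,4,0,1),(5,5,0,1),(6,6,0,1)],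
    [(0,0,0,1),(5,0,1,1),(1,1,0,1),(3,1,1,1),(2,2,0,1),(5,2,2,-1),(0,2,1,1),(3,3,0,1),(4,4,0,1),(6,4,1,-1),(5,5,0,1),(6,6,0,1)],
    [(0,0,0,1),(6,0,1,-1),(1,1,0,1),(6,1,2,-1),(0,1,1,2),(2,2,0,1),(4,2,1,1),(3,3,0,1),(5,3,1,-1),(4,4,0,1),(5,5,0,1),(6,6,0,1)]]

noncomputable def g2Iso : IsoData where
  p := 3
  rho := [2, 3, 0, 1, 5, 4, 7, 6, 10, 11, 8, 9]
  lam := [1, 1, 3, 3, 3, 1, 1, 3, 3, 3, 1, 1]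
  A := []
  V := [0, 4, 5, 6, 9, 10, 11]
  A2 := [0, 4, 5, 6, 9, 10, 11]
  W := [1, 2, 3, 7, 8, 12, 13]
  useW := false
  phi := g2IsoPhi0 ++ g2IsoPhi1 ++ g2IsoPhi2
  inv := g2IsoInv0 ++ g2IsoInv1 ++ g2IsoInv2
  core := [0, 1, 2, 3, 4, 5, 6, 7, 8, 9, 10, 11]
  xs := g2IsoXs0 ++ g2IsoXs1
  vs := g2IsoVs0 ++ g2IsoVs1
  ws := g2IsoWs0 ++ g2IsoWs1

theorem g2Iso_ok : IsoData.ok chevG2 g2Iso = true := by decide +kernel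

theorem g2Iso_facts : IsoData.Facts chevG2 g2Iso := IsoData.facts_of_ok _ _ g2Iso_ok

end Cfsg.Agent.Lib.Twisted
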