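import Cfsg.Agent.Lib.Chev.Bruhat

/-!
The set of positive roots made negative by an arbitrary element of the monomial subgroup, and the
canonical form stated with it.
-/

set_option autoImplicit false

namespace Cfsg.Agent.Lib.Twisted

open Cfsg.Lie Cfsg.Agent.Lib.Chev
open scoped Matrix Pointwise

variable {D : ChevalleyDatum} {C : Cert} {F : Type*} [Field F]

/-- The subgroup generated by the positive root elements that `n` carries into `V`. -/
def negSubgroup (D : ChevalleyDatum) (n : GL D.Idx F) : Subgroup (GL D.Idx F) :=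
  Subgroup.closure {x : GL D.Idx F | ∃ (r : ℕ) (t : F), D.IsPosRoot r ∧
    (D.rootSubgroup F r).map (MulAut.conj n).toMonoidHom ≤ D.negUnipotent F ∧
    (x : Matrix D.Idx D.Idx F) = D.x F r t}

variable (hh : Rooted D C)
include hh

theorem conj_root_le_neg_iff {L : List ℕ} (hL : IsWord D L) {t : GL D.Idx F}
    (ht : t ∈ D.diagonalSubgroup F) {r : ℕ} (hr : r ∈ posSet D) :
    (D.rootSubgroup F r).map (MulAut.conj (nProd hh.toChecked F L * t)).toMonoidHom ≤
      D.negUnipotent F ↔ r ∈ invSet D C L := by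
  have h := hh.toChecked
  set n := nProd hh.toChecked F L with hn
  have hnorm := hh.diagonal_le_normalizer (F := F) (S := {r}) (fun s hs => hs ▸ hr.2) ht
  have hfac : ∀ g : GL D.Idx F, MulAut.conj (n * t) g = n * (t * g * t⁻¹) * n⁻¹ := fun g => by
    simp [MulAut.conj_apply, mul_assoc]
  constructor
  · intro hle
    by_contra hinv
    let x : GL D.Idx F := xGL h F hr.2 1
    have hx : x ∈ D.rootSubgroup F r := (h.rootSubgroup_mem_iff hr.2).2 ⟨1, rfl⟩
    have h1 : n * (t * x * t⁻¹) * n⁻¹ ∈ D.negUnipotent F := hfac x ▸ hle (Subgroup.mem_map.2 ⟨x, hx, rfl⟩)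
    have hx' : t * x * t⁻¹ ∈ rootGen D F (posSet D \ invSet D C L) :=
      rootGen_mono (Set.singleton_subset_iff.2 (show r ∈ posSet D \ invSet D C L from ⟨hr, hinv⟩))
        ((Subgroup.mem_normalizer_iff.1 hnorm x).1 (mem_rootGen (Set.mem_singleton r) rfl))
    have h2 := h.conj_posSet_sdiff_le (F := F) hL hx'
    have h3 : n * (t * x * t⁻¹) * n⁻¹ = 1 :=
      Subgroup.mem_bot.1 (hh.borel_inf_negUnipotent.le (Subgroup.mem_inf.2 ⟨Subgroup.mem_sup_left h2, h1⟩))
    have h4 : x = 1 := conj_eq_one_iff.1 (conj_eq_one_iff.1 h3)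
    exact one_ne_zero ((h.x_eq_one_iff hr.2 (1 : F)).1 (by simpa [x, coe_xGL] using congrArg Units.val h4))
  · intro hinv
    rw [Subgroup.map_le_iff_le_comap]
    intro g hg
    rw [Subgroup.mem_comap]
    show MulAut.conj (n * t) g ∈ _
    rw [hfac]
    obtain ⟨s, rfl⟩ := (h.rootSubgroup_mem_iff hr.2).1 hg
    exact h.conj_invSet_le hL (rootGen_mono (Set.singleton_subset_iff.2 hinv)
      ((Subgroup.mem_normalizer_iff.1 hnorm _).1 (mem_rootGen (Set.mem_singleton r) rfl)))

theorem negSubgroup_eq {L : List ℕ} (hL : IsWord D L) {t : GL D.Idx F}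
    (ht : t ∈ D.diagonalSubgroup F) :
    negSubgroup D (nProd hh.toChecked F L * t) = rootGen D F (invSet D C L) := by
  have h := hh.toChecked
  unfold negSubgroup rootGen
  congr 1
  ext x
  simp only [Set.mem_setOf_eq]
  constructor
  · rintro ⟨r, s, hp, hle, e⟩
    have hr : r ∈ posSet D := h.mem_posRoots.1 (List.mem_filter.2 ⟨List.mem_range.2 hp.1, by simpa using hp⟩)
    exact ⟨r, s, (conj_root_le_neg_iff hh hL ht hr).1 hle, e⟩
  · rintro ⟨r, s, hr, e⟩
    have hp : D.IsPosRoot r := by simpa using (List.mem_filter.1 (h.mem_posRoots.2 hr.1)).2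
    exact ⟨r, s, hp, (conj_root_le_neg_iff hh hL ht hr.1).2 hr, e⟩

/-- Existence and uniqueness of the canonical form. -/
theorem canonical_form :
    (∀ g ∈ D.group F, ∃ b ∈ D.borelSubgroup F, ∃ n ∈ D.monomialSubgroup F,
      ∃ u ∈ negSubgroup D n, g = b * n * u) ∧
    (∀ b b' n n' u u' : GL D.Idx F, b ∈ D.borelSubgroup F → b' ∈ D.borelSubgroup F →
      n ∈ D.monomialSubgroup F → n' ∈ D.monomialSubgroup F →
      u ∈ negSubgroup D n → u' ∈ negSubgroup D n' →
      b * n * u = b' * n' * u' → n⁻¹ * n' ∈ D.diagonalSubgroup F ∧ (n = n' → b = b' ∧ u = u')) := by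
  have h := hh.toChecked
  constructor
  · intro g hg
    obtain ⟨L, hL, b, hb, u, hu, e⟩ := hh.exists_canonical hg
    refine ⟨b, hb, _, hh.nProd_mem_monomial hL, u, ?_, e⟩
    have := negSubgroup_eq hh hL (one_mem (D.diagonalSubgroup F))
    rw [mul_one] at this
    rw [this]
    exact hu
  · intro b b' n n' u u' hb hb' hn hn' hu hu' e
    have hpos : ∀ {m v : GL D.Idx F}, v ∈ negSubgroup D m → v ∈ D.borelSubgroup F := by
      intro m v hv
      refine Subgroup.mem_sup_left (Subgroup.closure_mono ?_ hv)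
      rintro x ⟨r, s, hp, -, e⟩
      exact ⟨r, s, hp, e⟩
    refine ⟨hh.diag_mem_of_mem_doubleCoset hn hn'
      (DoubleCoset.mem_doubleCoset.2 ⟨b, hb, u, hpos hu, rfl⟩)
      (DoubleCoset.mem_doubleCoset.2 ⟨b', hb', u', hpos hu', e⟩), ?_⟩
    rintro rfl
    obtain ⟨L, hL, t, ht, rfl⟩ := hh.exists_word hn
    rw [negSubgroup_eq hh hL ht] at hu hu'
    obtain ⟨t', ht', et⟩ := hh.nProd_conj_diag hL ht
    have e2 : b * t' * nProd hh.toChecked F L * u = b' * t' * nProd hh.toChecked F L * u' := by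
      simp only [mul_assoc] at e ⊢
      simp only [← mul_assoc (nProd hh.toChecked F L) t, et, mul_assoc] at e
      exact e
    obtain ⟨e3, e4⟩ := hh.canonical_unique hL (mul_mem hb (Subgroup.mem_sup_right ht'))
      (mul_mem hb' (Subgroup.mem_sup_right ht')) hu hu' e2
    exact ⟨mul_right_cancel e3, e4⟩

end Cfsg.Agent.Lib.Twisted
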