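import Cfsg.Agent.Lib.Twisted.ExcIso
import Cfsg.Prelude.Def_ChevB2

/-! Certificate of the exceptional isogeny of type B2 in characteristic 2 (generated data). -/

set_option autoImplicit false

namespace Cfsg.Agent.Lib.Twisted

open Cfsg.Lie

noncomputable def b2IsoPhi0 : List (List (PolyMat.Term)) := [
    [(0,0,0,1),(1,1,0,1),(2,2,0,1),(3,3,0,1)],
    [(1,1,0,1),(2,2,0,1)],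
    [(0,3,0,1)],
    [(0,2,0,1),(1,3,0,1)],
    [(0,1,0,1),(2,3,0,1)],
    [(1,2,0,1)]]

noncomputable def b2IsoPhi1 : List (List (PolyMat.Term)) := [
    [(2,1,0,1)],
    [(1,0,0,1),(3,2,0,1)],
    [(2,0,0,1),(3,1,0,1)],
    [(3,0,0,1)]]

noncomputable def b2IsoInv0 : List (List (ℕ × ℕ × ℤ)) := [
    [(0,0,1)],
    [(0,0,1),(1,1,1)],
    [(0,3,1)],
    [(0,2,1)],
    [(0,1,1)],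
    [(1,2,1)]]

noncomputable def b2IsoInv1 : List (List (ℕ × ℕ × ℤ)) := [
    [(2,1,1)],
    [(1,0,1)],
    [(2,0,1)],
    [(3,0,1)]]

noncomputable def b2IsoXs0 : List (List (PolyMat.Term)) := [
    [(0,0,0,1),(2,0,1,2),(1,1,0,1),(2,1,1,0),(2,2,0,1),(3,3,0,1),(4,4,0,1),(5,5,0,1),(6,6,0,1),(7,7,0,1),(3,7,1,1),(8,8,0,1),(4,8,1,-1),(9,9,0,1),(2,9,2,-1),(0,9,1,-1),(1,9,1,-1)],
    [(0,0,0,1),(3,0,1,0),(1,1,0,1),(3,1,1,1),(2,2,0,1),(3,3,0,1),(4,4,0,1),(2,4,1,2),(5,5,0,1),(6,6,0,1),(4,6,1,1),(2,6,2,1),(7,7,0,1),(5,7,1,-2),(8,8,0,1),(3,8,2,-1),(0,8,1,-1),(1,8,1,-2),(9,9,0,1),(7,9,1,-1),(5,9,2,1)],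
    [(0,0,0,1),(4,0,1,2),(1,1,0,1),(4,1,1,-1),(2,2,0,1),(3,3,0,1),(2,3,1,-2),(4,4,0,1),(5,5,0,1),(3,5,1,1),(2,5,2,-1),(6,6,0,1),(7,7,0,1),(4,7,2,-1),(0,7,1,-1),(1,7,1,0),(8,8,0,1),(6,8,1,-2),(9,9,0,1),(8,9,1,1),(6,9,2,-1)],
    [(0,0,0,1),(5,0,1,-2),(1,1,0,1),(5,1,1,2),(2,2,0,1),(3,3,0,1),(4,4,0,1),(3,4,1,-1),(5,5,0,1),(6,6,0,1),(5,6,2,-1),(0,6,1,0),(1,6,1,-1),(7,7,0,1),(8,8,0,1),(7,8,1,1),(9,9,0,1)],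
    [(0,0,0,1),(6,0,1,2),(1,1,0,1),(6,1,1,-2),(2,2,0,1),(3,3,0,1),(4,3,1,-1),(4,4,0,1),(5,5,0,1),(6,5,2,-1),(0,5,1,0),(1,5,1,1),(6,6,0,1),(7,7,0,1),(8,7,1,1),(8,8,0,1),(9,9,0,1)],
    [(0,0,0,1),(7,0,1,-2),(1,1,0,1),(7,1,1,1),(2,2,0,1),(3,2,1,-1),(5,2,2,-1),(3,3,0,1),(5,3,1,2),(4,4,0,1),(7,4,2,-1),(0,4,1,1),(1,4,1,0),(5,5,0,1),(6,6,0,1),(8,6,1,-1),(9,6,2,-1),(7,7,0,1),(8,8,0,1),(9,8,1,2),(9,9,0,1)]]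

noncomputable def b2IsoXs1 : List (List (PolyMat.Term)) := [
    [(0,0,0,1),(8,0,1,0),(1,1,0,1),(8,1,1,-1),(2,2,0,1),(4,2,1,1),(6,2,2,1),(3,3,0,1),(8,3,2,-1),(0,3,1,1),(1,3,1,2),(4,4,0,1),(6,4,1,2),(5,5,0,1),(7,5,1,-1),(9,5,2,1),(6,6,0,1),(7,7,0,1),(9,7,1,-2),(8,8,0,1),(9,9,0,1)],
    [(0,0,0,1),(9,0,1,-2),(1,1,0,1),(9,1,1,0),(2,2,0,1),(9,2,2,-1),(0,2,1,1),(1,2,1,1),(3,3,0,1),(7,3,1,1),(4,4,0,1),(8,4,1,-1),(5,5,0,1),(6,6,0,1),(7,7,0,1),(8,8,0,1),(9,9,0,1)]]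

noncomputable def b2IsoVs0 : List (List (PolyMat.Term)) := [
    [(0,0,0,1),(1,1,0,1),(2,2,0,1),(0,2,1,1),(3,3,0,1),(1,3,1,-1)],
    [(0,0,0,1),(1,1,0,1),(2,2,0,1),(3,3,0,1),(0,3,2,-1)],
    [(0,0,0,1),(1,1,0,1),(2,2,0,1),(1,2,2,-1),(3,3,0,1)],
    [(0,0,0,1),(1,1,0,1),(0,1,1,-1),(2,2,0,1),(3,3,0,1),(2,3,1,1)],
    [(0,0,0,1),(1,0,1,-1),(1,1,0,1),(2,2,0,1),(3,2,1,1),(3,3,0,1)],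
    [(0,0,0,1),(1,1,0,1),(2,1,2,-1),(2,2,0,1),(3,3,0,1)]]

noncomputable def b2IsoVs1 : List (List (PolyMat.Term)) := [
    [(0,0,0,1),(3,0,2,-1),(1,1,0,1),(2,2,0,1),(3,3,0,1)],
    [(0,0,0,1),(2,0,1,1),(1,1,0,1),(3,1,1,-1),(2,2,0,1),(3,3,0,1)]]

noncomputable def b2IsoWs0 : List (List (PolyMat.Term)) := [
    [(0,0,0,1),(1,1,0,1),(2,2,0,1),(3,3,0,1),(0,3,2,-1)],
    [(0,0,0,1),(1,1,0,1),(2,2,0,1),(0,2,2,1),(3,3,0,1),(1,3,2,1)],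
    [(0,0,0,1),(1,1,0,1),(0,1,2,-1),(2,2,0,1),(3,3,0,1),(2,3,2,-1)],
    [(0,0,0,1),(1,1,0,1),(2,2,0,1),(1,2,2,-1),(3,3,0,1)],
    [(0,0,0,1),(1,1,0,1),(2,1,2,-1),(2,2,0,1),(3,3,0,1)],
    [(0,0,0,1),(1,0,2,-1),(1,1,0,1),(2,2,0,1),(3,2,2,-1),(3,3,0,1)]]

noncomputable def b2IsoWs1 : List (List (PolyMat.Term)) := [
    [(0,0,0,1),(2,0,2,1),(1,1,0,1),(3,1,2,1),(2,2,0,1),(3,3,0,1)],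
    [(0,0,0,1),(3,0,2,-1),(1,1,0,1),(2,2,0,1),(3,3,0,1)]]

noncomputable def b2Iso : IsoData where
  p := 2
  rho := [1, 0, 3, 2, 5, 4, 7, 6]
  lam := [1, 2, 2, 1, 1, 2, 2, 1]
  A := [0]
  V := [3, 4, 7, 8]
  A2 := [0, 1, 3, 4, 7, 8]
  W := [2, 5, 6, 9]
  useW := true
  phi := b2IsoPhi0 ++ b2IsoPhi1
  inv := b2IsoInv0 ++ b2IsoInv1
  core := [0, 1, 2, 3, 4, 5, 6, 7]
  xs := b2IsoXs0 ++ b2IsoXs1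
  vs := b2IsoVs0 ++ b2IsoVs1
  ws := b2IsoWs0 ++ b2IsoWs1

theorem b2Iso_ok : IsoData.ok chevB2 b2Iso = true := by decide +kernel

theorem b2Iso_facts : IsoData.Facts chevB2 b2Iso := IsoData.facts_of_ok _ _ b2Iso_ok

end Cfsg.Agent.Lib.Twisted
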